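import Mathlib.GroupTheory.SpecificGroups.ZGroup
import Cfsg.Agent.SporB.J1Simple
import Cfsg.Agent.J1Centralizer.Basic
import Cfsg.Agent.J1Order.Basic

/-!
# Facts about groups isomorphic to `J₁`
-/

set_option autoImplicit false
set_option linter.style.haveILetI false

namespace CfsgLib.J1Closure

open CfsgLib.J1Order (Mdl)

/-- The element orders of `J₁`. -/
def spectrum : List ℕ := [1, 2, 3, 5, 6, 7, 10, 11, 15, 19]

theorem spectrum_dvd : ∀ n ∈ spectrum, ∀ d ∈ n.divisors, d ∈ spectrum := by decide +kernel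

theorem numeric : ∀ a ∈ spectrum, ∀ b ∈ spectrum, ¬ 2 ∣ a → ¬ 2 ∣ b → Nat.Coprime a b →
    (76 < a * b ∨ a ≠ 1 ∧ b ≠ 1 ∧ Nat.Coprime 15 (a * b)) →
    ∃ q ∈ [3, 5, 7, 11, 19], q ∣ b ∧ ¬ q ∣ Nat.totient a ∧ a * q ∉ spectrum := by
  decide +kernel

theorem spectrum_le : ∀ a ∈ spectrum, a ≤ 19 := by decide +kernel

/-- An element of prime order that normalises a cyclic group without inducing a non-trivial
automorphism gives an element of the product order. -/
theorem orderOf_mul_of_normalizes {G : Type*} [Group G] [Finite G] {x y : G} {q : ℕ}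
    (hq : q.Prime) (hy : orderOf y = q) (hcop : Nat.Coprime (orderOf x) q)
    (hphi : ¬ q ∣ Nat.totient (orderOf x))
    (hn : y ∈ Subgroup.normalizer (Subgroup.zpowers x : Set G)) :
    orderOf (x * y) = orderOf x * q := by
  have hdvd : orderOf ((Subgroup.zpowers x).normalizerMonoidHom ⟨y, hn⟩) ∣ q := by
    refine (orderOf_map_dvd _ _).trans ?_
    rw [← Subgroup.orderOf_coe, hy]
  have hcard : orderOf ((Subgroup.zpowers x).normalizerMonoidHom ⟨y, hn⟩) ∣
      Nat.totient (orderOf x) := by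
    refine (orderOf_dvd_natCard _).trans ?_
    rw [IsCyclic.card_mulAut, Nat.card_zpowers]
  rcases (Nat.dvd_prime hq).1 hdvd with h | h
  · have hker : (⟨y, hn⟩ : Subgroup.normalizer (Subgroup.zpowers x : Set G)) ∈
        (Subgroup.zpowers x).normalizerMonoidHom.ker := orderOf_eq_one_iff.1 h
    rw [Subgroup.normalizerMonoidHom_ker, Subgroup.mem_subgroupOf] at hker
    have hc : Commute x y := Subgroup.mem_centralizer_iff.1 hker x (Subgroup.mem_zpowers x)
    rw [hc.orderOf_mul_eq_mul_orderOf_of_coprime (hy.symm ▸ hcop), hy]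
  · exact absurd (h ▸ hcard) hphi

open Cfsg.Spor (J1) in
theorem exists_setting : ∃ S : J1Order.Setting J1, S.t = J1Centralizer.tEl := by
  haveI : Finite J1 := Nat.finite_of_card_ne_zero (J1.card_J1.trans_ne (by norm_num))
  haveI : Fact (Nat.Prime 2) := ⟨Nat.prime_two⟩
  obtain ⟨e⟩ := J1Centralizer.centralizer_equiv
  have hC : Nat.card J1Centralizer.Cen = 120 := by
    rw [Nat.card_congr e.toEquiv, Nat.card_eq_fintype_card]
    exact J1Order.card_mdl
  obtain ⟨P, hP⟩ := Sylow.exists_subgroup_card_pow_prime (G := J1Centralizer.Cen) 2 (n := 3)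
    (by rw [hC]; norm_num)
  have hQ : Nat.card (P.map J1Centralizer.Cen.subtype) = 2 ^ 3 := by
    rw [Subgroup.card_map_of_injective J1Centralizer.Cen.subtype_injective, hP]
  obtain ⟨Q, hQ'⟩ := (IsPGroup.of_card hQ).exists_le_sylow
  have hQeq : (Q : Subgroup J1) = P.map J1Centralizer.Cen.subtype := by
    refine (Subgroup.eq_of_le_of_card_ge hQ' ?_).symm
    obtain ⟨k, hk⟩ := Q.isPGroup'.exists_card_eq
    have hd : 2 ^ k ∣ 175560 := by
      rw [← hk, ← J1.card_J1]
      exact Subgroup.card_subgroup_dvd_card _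
    rw [hk, hQ]
    refine Nat.pow_le_pow_right two_pos ?_
    by_contra hc
    exact absurd ((pow_dvd_pow 2 (show 4 ≤ k by omega)).trans hd) (by norm_num)
  have hcomm : ∀ x ∈ Q, x * J1Centralizer.tEl = J1Centralizer.tEl * x := fun x hx => by
    have hx' : x ∈ P.map J1Centralizer.Cen.subtype := hQeq ▸ hx
    obtain ⟨y, -, rfl⟩ := hx'
    exact Subgroup.mem_centralizer_singleton_iff.1 y.2
  refine J1Order.Setting.exists_of_iso J1Centralizer.orderOf_tEl ⟨Q, ?_, hcomm⟩ e
  -- the central involution lies in the Sylow subgroup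
  have hzp : IsPGroup 2 (Subgroup.zpowers J1Centralizer.tEl) :=
    IsPGroup.of_card (n := 1) (by rw [Nat.card_zpowers, J1Centralizer.orderOf_tEl, pow_one])
  have hle : Subgroup.zpowers J1Centralizer.tEl ≤ Subgroup.normalizer (Q : Set J1) := by
    rw [Subgroup.zpowers_le]
    refine Subgroup.mem_normalizer_iff.2 fun h => ⟨fun hh => ?_, fun hh => ?_⟩
    · rwa [← hcomm h hh, mul_inv_cancel_right]
    · have e : h = J1Centralizer.tEl * h * J1Centralizer.tEl⁻¹ :=
        calc h = J1Centralizer.tEl⁻¹ * (J1Centralizer.tEl * h * J1Centralizer.tEl⁻¹ *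
              J1Centralizer.tEl) := by group
          _ = J1Centralizer.tEl⁻¹ * (J1Centralizer.tEl *
              (J1Centralizer.tEl * h * J1Centralizer.tEl⁻¹)) := by rw [hcomm _ hh]
          _ = _ := by group
      exact e ▸ hh
  exact le_of_eq (Q.3 (IsPGroup.to_sup_of_normal_right' hzp Q.isPGroup' hle) le_sup_right)
    (Subgroup.mem_sup_left (Subgroup.mem_zpowers _))

variable {J : Type*} [Group J] [Finite J]

theorem iso_card (h : Cfsg.Spor.IsoJ1 J) : Nat.card J = 175560 := by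
  obtain ⟨e⟩ := h
  rw [Nat.card_congr e.toEquiv, J1.card_J1]

theorem iso_spectrum (h : Cfsg.Spor.IsoJ1 J) (x : J) : orderOf x ∈ spectrum := by
  obtain ⟨e⟩ := h
  rw [← e.orderOf_eq x]
  exact J1.range_orderOf_J1.subset ⟨e x, rfl⟩

omit [Finite J] in
theorem iso_exists_order (h : Cfsg.Spor.IsoJ1 J) {n : ℕ} (hn : n ∈ spectrum) :
    ∃ x : J, orderOf x = n := by
  obtain ⟨e⟩ := h
  obtain ⟨y, hy⟩ := J1.range_orderOf_J1.superset hn
  exact ⟨e.symm y, by rw [e.symm.orderOf_eq, hy]⟩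

theorem iso_isConj (h : Cfsg.Spor.IsoJ1 J) {x y : J} (hx : x * x = 1) (hx1 : x ≠ 1)
    (hy : y * y = 1) (hy1 : y ≠ 1) : ∃ a, a * x * a⁻¹ = y := by
  obtain ⟨e⟩ := h
  haveI : Finite Cfsg.Spor.J1 := Finite.of_equiv J e.toEquiv
  haveI := SporB.J1.isJ1.1
  obtain ⟨S, -⟩ := exists_setting
  have key : ∀ z : J, z * z = 1 → z ≠ 1 → IsConj S.t (e z) := fun z hz hz1 =>
    S.isConj_t (by rw [← map_mul, hz, map_one]) fun h => hz1 ((map_eq_one_iff e e.injective).1 h)
  obtain ⟨a, ha⟩ := isConj_iff.1 ((key x hx hx1).symm.trans (key y hy hy1))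
  exact ⟨e.symm a, e.injective (by simp [ha])⟩

theorem iso_card_centralizer (h : Cfsg.Spor.IsoJ1 J) {x : J} (hx : x * x = 1) (hx1 : x ≠ 1) :
    Nat.card (Subgroup.centralizer ({x} : Set J)) = 120 := by
  obtain ⟨e⟩ := h
  haveI : Finite Cfsg.Spor.J1 := Finite.of_equiv J e.toEquiv
  haveI := SporB.J1.isJ1.1
  obtain ⟨S, -⟩ := exists_setting
  obtain ⟨a, ha⟩ := isConj_iff.1
    (S.isConj_t (show e x * e x = 1 by rw [← map_mul, hx, map_one])
      fun h => hx1 ((map_eq_one_iff e e.injective).1 h))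
  let f : J →* Cfsg.Spor.J1 := (MulAut.conj a⁻¹).toMonoidHom.comp e.toMonoidHom
  have hfb : Function.Bijective f := (MulAut.conj a⁻¹).bijective.comp e.bijective
  have hfx : f x = S.t := by
    show a⁻¹ * e x * a⁻¹⁻¹ = S.t
    rw [← ha]; group
  have heq : (Subgroup.centralizer ({S.t} : Set Cfsg.Spor.J1)).comap f =
      Subgroup.centralizer ({x} : Set J) := by
    ext y
    rw [Subgroup.mem_comap, Subgroup.mem_centralizer_singleton_iff,
      Subgroup.mem_centralizer_singleton_iff, ← hfx, ← map_mul, ← map_mul]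
    exact hfb.1.eq_iff
  rw [← heq, ← Subgroup.card_map_of_injective hfb.1,
    Subgroup.map_comap_eq_self_of_surjective hfb.2, ← S.range,
    Nat.card_congr (MonoidHom.ofInjective S.inj).symm.toEquiv, Nat.card_eq_fintype_card,
    J1Order.card_mdl]

theorem iso_card_involutions (h : Cfsg.Spor.IsoJ1 J) :
    Nat.card {x : J // x * x = 1 ∧ x ≠ 1} = 1463 := by
  obtain ⟨t, ht⟩ := iso_exists_order h (show 2 ∈ spectrum by decide)
  have ht2 : t * t = 1 := by rw [← pow_two, ← ht, pow_orderOf_eq_one]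
  have ht1 : t ≠ 1 := fun h => by rw [h, orderOf_one] at ht; omega
  choose f hf using fun x : {x : J // x * x = 1 ∧ x ≠ 1} => iso_isConj h ht2 ht1 x.2.1 x.2.2
  have e : {x : J // x * x = 1 ∧ x ≠ 1} ≃ J ⧸ Subgroup.centralizer ({t} : Set J) := by
    refine Equiv.ofBijective (fun x => QuotientGroup.mk (f x)) ⟨fun x y hxy => ?_, fun q => ?_⟩
    · have h1 := Subgroup.mem_centralizer_singleton_iff.1 (QuotientGroup.eq.1 hxy)
      refine Subtype.ext ?_
      rw [← hf x, ← hf y]
      calc f x * t * (f x)⁻¹ = f x * (t * ((f x)⁻¹ * f y)) * (f y)⁻¹ := by group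
        _ = f x * ((f x)⁻¹ * f y * t) * (f y)⁻¹ := by rw [h1]
        _ = f y * t * (f y)⁻¹ := by group
    · obtain ⟨g, rfl⟩ := QuotientGroup.mk_surjective q
      let x : {x : J // x * x = 1 ∧ x ≠ 1} :=
        ⟨g * t * g⁻¹, by rw [conj_mul, ht2, mul_one, mul_inv_cancel],
          fun h => ht1 (conj_eq_one_iff.1 h)⟩
      refine ⟨x, QuotientGroup.eq.2 (Subgroup.mem_centralizer_singleton_iff.2 ?_)⟩
      calc (f x)⁻¹ * g * t = (f x)⁻¹ * (g * t * g⁻¹) * g := by group
        _ = (f x)⁻¹ * (f x * t * (f x)⁻¹) * g := by rw [hf x]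
        _ = t * ((f x)⁻¹ * g) := by group
  rw [Nat.card_congr e, ← Subgroup.index_eq_card]
  have := Subgroup.card_mul_index (Subgroup.centralizer ({t} : Set J))
  rw [iso_card_centralizer h ht2 ht1, iso_card h] at this
  omega

/-- The structure of a subgroup of odd order. -/
theorem odd_subgroup (h : Cfsg.Spor.IsoJ1 J) (P : Subgroup J) (hodd : ¬ 2 ∣ Nat.card P) :
    Nat.card P ≤ 76 ∧ (Nat.Coprime 15 (Nat.card P) → Nat.card P ≤ 19) := by
  have hdvd : Nat.card P ∣ 21945 := by
    have := Subgroup.card_subgroup_dvd_card P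
    rw [iso_card h, show 175560 = 8 * 21945 from rfl] at this
    exact (((Nat.prime_two.coprime_iff_not_dvd.2 hodd).pow_left 3).symm :
      Nat.Coprime (Nat.card P) 8).dvd_of_dvd_mul_left this
  have hsq : Squarefree (21945 : ℕ) := by
    rw [Nat.squarefree_iff_nodup_primeFactorsList (by norm_num)]
    simp +decide
  haveI : IsZGroup P := IsZGroup.of_squarefree (hsq.squarefree_of_dvd hdvd)
  haveI hC : IsCyclic (commutator P) := IsZGroup.isCyclic_commutator P
  obtain ⟨⟨x, hxC⟩, hx⟩ := hC.exists_generator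
  have hzp : Subgroup.zpowers x = commutator P := by
    refine le_antisymm (Subgroup.zpowers_le.2 hxC) fun z hz => ?_
    obtain ⟨k, hk⟩ := Subgroup.mem_zpowers_iff.1 (hx ⟨z, hz⟩)
    exact Subgroup.mem_zpowers_iff.2 ⟨k, congrArg Subtype.val hk⟩
  obtain ⟨g, hg⟩ := (IsZGroup.isCyclic_abelianization (G := P)).exists_generator
  obtain ⟨g, rfl⟩ := QuotientGroup.mk_surjective g
  set a := Nat.card (commutator P) with ha
  set b := (commutator P).index with hb
  have hab : a * b = Nat.card P := Subgroup.card_mul_index _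
  have hax : orderOf x = a := by rw [ha, ← hzp, Nat.card_zpowers]
  have haS : a ∈ spectrum := by
    rw [← hax, ← Subgroup.orderOf_coe]; exact iso_spectrum h _
  have hbS : b ∈ spectrum := by
    have hbd : b ∣ orderOf g := by
      have h1 : Nat.card (Abelianization P) ∣ orderOf g := by
        rw [← orderOf_eq_card_of_forall_mem_zpowers hg]
        exact orderOf_map_dvd (QuotientGroup.mk' (commutator P)) g
      rw [hb, Subgroup.index_eq_card]
      exact h1
    refine spectrum_dvd _ (iso_spectrum h (g : J)) b (Nat.mem_divisors.2 ⟨?_, ?_⟩)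
    · rwa [Subgroup.orderOf_coe]
    · exact (orderOf_pos _).ne'
  have hcop : Nat.Coprime a b := IsZGroup.coprime_commutator_index P
  have key : ¬ (76 < a * b ∨ a ≠ 1 ∧ b ≠ 1 ∧ Nat.Coprime 15 (a * b)) := by
    intro hbad
    obtain ⟨q, hq, hqb, hqa, hqS⟩ := numeric a haS b hbS
      (fun h2 => hodd (h2.trans (hab ▸ dvd_mul_right a b)))
      (fun h2 => hodd (h2.trans (hab ▸ dvd_mul_left b a))) hcop hbad
    have hqp : q.Prime := by
      simp only [List.mem_cons, List.not_mem_nil, or_false] at hq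
      rcases hq with rfl | rfl | rfl | rfl | rfl <;> norm_num
    haveI := Fact.mk hqp
    obtain ⟨y, hy⟩ := exists_prime_orderOf_dvd_card' (G := P) q (hqb.trans (hab ▸ dvd_mul_left b a))
    refine hqS ?_
    have hn : y ∈ Subgroup.normalizer (Subgroup.zpowers x : Set P) := by
      rw [hzp, Subgroup.normalizer_eq_top]; exact Subgroup.mem_top _
    rw [← hax, ← orderOf_mul_of_normalizes hqp hy (hax ▸ hcop.coprime_dvd_right hqb)
      (hax ▸ hqa) hn, ← Subgroup.orderOf_coe]
    exact iso_spectrum h _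
  rw [← hab]
  push Not at key
  refine ⟨key.1, fun h15 => ?_⟩
  by_cases ha1 : a = 1
  · rw [ha1, one_mul]; exact spectrum_le b hbS
  by_cases hb1 : b = 1
  · rw [hb1, mul_one]; exact spectrum_le a haS
  exact absurd h15 (key.2 ha1 hb1)

/-- An element of order three or five commutes with an involution. -/
theorem exists_commuting_involution (h : Cfsg.Spor.IsoJ1 J) {q : ℕ} (hq : q = 3 ∨ q = 5) {x : J}
    (hx : orderOf x = q) : ∃ c : J, c * c = 1 ∧ c ≠ 1 ∧ c * x = x * c := by
  have hqp : q.Prime := by rcases hq with rfl | rfl <;> norm_num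
  haveI := Fact.mk hqp
  obtain ⟨g, hg⟩ := iso_exists_order h (show 2 * q ∈ spectrum by
    rcases hq with rfl | rfl <;> decide)
  have hmax : ∀ z : J, orderOf z = q → ∀ Q : Sylow q J, z ∈ Q →
      Subgroup.zpowers z = (Q : Subgroup J) := by
    intro z hz Q hzQ
    refine Subgroup.eq_of_le_of_card_ge (Subgroup.zpowers_le.2 hzQ) ?_
    obtain ⟨k, hk⟩ := Q.isPGroup'.exists_card_eq
    have hd : q ^ k ∣ 175560 := by
      rw [← hk, ← iso_card h]; exact Subgroup.card_subgroup_dvd_card _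
    rw [hk, Nat.card_zpowers, hz]
    refine (Nat.pow_le_pow_right hqp.pos ?_).trans (pow_one q).le
    by_contra hc
    have h2 := (pow_dvd_pow q (show 2 ≤ k by omega)).trans hd
    rcases hq with rfl | rfl <;> norm_num at h2
  have hg2 : orderOf (g ^ 2) = q := by
    rw [orderOf_pow, hg, Nat.gcd_mul_right_left, Nat.mul_div_cancel_left q two_pos]
  obtain ⟨Q₁, h₁⟩ := (IsPGroup.of_card (n := 1)
    (show Nat.card (Subgroup.zpowers x) = q ^ 1 by rw [Nat.card_zpowers, hx, pow_one])).exists_le_sylow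
  obtain ⟨Q₂, h₂⟩ := (IsPGroup.of_card (n := 1)
    (show Nat.card (Subgroup.zpowers (g ^ 2)) = q ^ 1 by
      rw [Nat.card_zpowers, hg2, pow_one])).exists_le_sylow
  obtain ⟨a, ha⟩ := MulAction.exists_smul_eq J Q₁ Q₂
  have hmem : a * x * a⁻¹ ∈ Subgroup.zpowers (g ^ 2) := by
    rw [hmax _ hg2 Q₂ (h₂ (Subgroup.mem_zpowers _)), ← ha, Sylow.smul_def,
      Sylow.pointwise_smul_def]
    exact ⟨x, h₁ (Subgroup.mem_zpowers x), rfl⟩
  have hgq : g ^ q * g ^ q = 1 := by rw [← pow_add, ← two_mul, ← hg, pow_orderOf_eq_one]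
  have hgq1 : g ^ q ≠ 1 := fun h1 => by
    have := Nat.le_of_dvd hqp.pos (orderOf_dvd_of_pow_eq_one h1)
    rw [hg] at this
    have := hqp.pos
    omega
  obtain ⟨i, hi⟩ := Subgroup.mem_zpowers_iff.1 hmem
  have hcomm : Commute (g ^ q) (a * x * a⁻¹) := by
    rw [← hi]; exact (Commute.pow_pow_self g q 2).zpow_right i
  refine ⟨a⁻¹ * g ^ q * a, ?_, ?_, ?_⟩
  · calc a⁻¹ * g ^ q * a * (a⁻¹ * g ^ q * a) = a⁻¹ * (g ^ q * g ^ q) * a := by group
      _ = 1 := by rw [hgq, mul_one, inv_mul_cancel]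
  · intro h1
    exact hgq1 (by
      calc g ^ q = a * (a⁻¹ * g ^ q * a) * a⁻¹ := by group
        _ = 1 := by rw [h1, mul_one, mul_inv_cancel])
  · calc a⁻¹ * g ^ q * a * x = a⁻¹ * (g ^ q * (a * x * a⁻¹)) * a := by group
      _ = a⁻¹ * (a * x * a⁻¹ * g ^ q) * a := by rw [hcomm.eq]
      _ = x * (a⁻¹ * g ^ q * a) := by group

/-- A subgroup of odd order none of whose non-identity elements commutes with an involution has
order at most 19. -/
theorem card_le_nineteen (h : Cfsg.Spor.IsoJ1 J) (P : Subgroup J) (hodd : ¬ 2 ∣ Nat.card P)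
    (hfree : ∀ x ∈ P, x ≠ 1 → ∀ c : J, c * c = 1 → c ≠ 1 → c * x ≠ x * c) :
    Nat.card P ≤ 19 := by
  refine (odd_subgroup h P hodd).2 ?_
  have key : ∀ q, (q = 3 ∨ q = 5) → ¬ q ∣ Nat.card P := by
    intro q hq hd
    have hqp : q.Prime := by rcases hq with rfl | rfl <;> norm_num
    haveI := Fact.mk hqp
    obtain ⟨x, hx⟩ := exists_prime_orderOf_dvd_card' (G := P) q hd
    rw [← Subgroup.orderOf_coe] at hx
    obtain ⟨c, hc, hc1, hcx⟩ := exists_commuting_involution h hq hx
    exact hfree x x.2 (fun h1 => hqp.ne_one (by rw [← hx, h1, orderOf_one])) c hc hc1 hcx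
  rw [show (15 : ℕ) = 3 * 5 from rfl]
  exact Nat.Coprime.mul_left ((Nat.Prime.coprime_iff_not_dvd (by norm_num)).2 (key 3 (Or.inl rfl)))
    ((Nat.Prime.coprime_iff_not_dvd (by norm_num)).2 (key 5 (Or.inr rfl)))

end CfsgLib.J1Closure
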