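import Cfsg.Agent.J1Closure.Decomp

/-!
# Restriction to subgroups; the subgroup generated by the conjugates of `t`
-/

set_option autoImplicit false
set_option linter.style.haveILetI false

namespace CfsgLib.J1Closure

open CfsgLib.J1Order (Mdl mT mV mR mU mP mT_mul mT_facts sq_mP)

universe u

namespace Setting

variable {G : Type u} [Group G] (S : Setting G)

/-- The subgroup generated by the conjugates of `t` under `H`. -/
def closureIn (H : Subgroup G) : Subgroup G := Subgroup.closure {x | ∃ h ∈ H, x = h * S.t * h⁻¹}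

theorem conj_mem_closureIn {H : Subgroup G} {h : G} (hh : h ∈ H) :
    h * S.t * h⁻¹ ∈ S.closureIn H := Subgroup.subset_closure ⟨h, hh, rfl⟩

theorem t_mem_closureIn (H : Subgroup G) : S.t ∈ S.closureIn H := by
  simpa using S.conj_mem_closureIn (H := H) (one_mem H)

theorem closureIn_normalized {H : Subgroup G} {g : G} (hg : g ∈ H) {x : G}
    (hx : x ∈ S.closureIn H) : g * x * g⁻¹ ∈ S.closureIn H := by
  have : S.closureIn H ≤ (S.closureIn H).comap (MulAut.conj g).toMonoidHom :=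
    (Subgroup.closure_le _).2 <| by
      rintro _ ⟨h, hh, rfl⟩
      show g * (h * S.t * h⁻¹) * g⁻¹ ∈ S.closureIn H
      rw [show g * (h * S.t * h⁻¹) * g⁻¹ = g * h * S.t * (g * h)⁻¹ by group]
      exact S.conj_mem_closureIn (mul_mem hg hh)
  exact this hx

theorem closureIn_le {H : Subgroup G} (ht : S.t ∈ H) : S.closureIn H ≤ H :=
  (Subgroup.closure_le _).2 fun _ ⟨_, hh, hx⟩ => hx ▸ mul_mem (mul_mem hh ht) (inv_mem hh)

theorem closureIn_top : S.closureIn ⊤ = Subgroup.normalClosure {S.t} := by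
  refine le_antisymm ((Subgroup.closure_le _).2 ?_) ?_
  · rintro _ ⟨h, -, rfl⟩
    exact (Subgroup.normalClosure_normal (s := {S.t})).conj_mem S.t
      (Subgroup.subset_normalClosure (Set.mem_singleton S.t)) h
  · refine (Subgroup.closure_le _).2 fun x hx => ?_
    obtain ⟨a, ha, hax⟩ := Group.mem_conjugatesOfSet_iff.1 hx
    rw [Set.mem_singleton_iff.1 ha] at hax
    obtain ⟨c, rfl⟩ := isConj_iff.1 hax
    exact S.conj_mem_closureIn (Subgroup.mem_top c)

variable [Finite G]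

theorem exists_L_move : ∃ l ∈ S.L, l * S.t * l⁻¹ ∈ S.phi.range ∧ l * S.t * l⁻¹ ≠ S.t := by
  by_contra h
  push Not at h
  refine S.t_ne_one (eq_one_of_fixed t_mem_E fun l hl => ?_)
  have := h l hl (E_le_range ((mem_N_iff (L_le_N hl)).1 t_mem_E))
  rwa [← mul_inv_eq_iff_eq_mul]

theorem mem_CE_of_two_group {Q : Subgroup G} (hQ : IsPGroup 2 Q) (hE : S.E ≤ Q) {x : G}
    (hx : x ∈ Q) : x ∈ S.CE := by
  haveI : Fact (Nat.Prime 2) := ⟨Nat.prime_two⟩
  obtain ⟨P, hP⟩ := hQ.exists_le_sylow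
  obtain ⟨a, ha, rfl⟩ := S.exists_conj_sylow (hE.trans hP)
  have h1 : x ∈ ((a • S.P₀ : Sylow 2 G) : Subgroup G) := hP hx
  rw [Sylow.smul_def, Sylow.pointwise_smul_def] at h1
  obtain ⟨y, hy, rfl⟩ := h1
  exact CE_conj ha (P₀_le_CE hy)

theorem t_mem_of_range {H : Subgroup G} (hW : S.phi.range ≤ H) : S.t ∈ H := hW ⟨mT, S.phi_T⟩

/-- The setting inherited by a subgroup. -/
def restrict (H : Subgroup G) (hW : S.phi.range ≤ H) (hL : S.L ≤ H) : Setting H where
  t := ⟨S.t, S.t_mem_of_range hW⟩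
  phi := S.phi.codRestrict H fun m => hW ⟨m, rfl⟩
  inj := fun a b h => S.inj (congrArg Subtype.val h)
  phi_T := Subtype.ext S.phi_T
  weak g hg := by
    obtain ⟨m, hm⟩ := S.weak (g : G) (congrArg Subtype.val hg)
    exact ⟨m, Subtype.ext hm⟩
  fused := by
    obtain ⟨l, hl, ⟨m, hm⟩, hne⟩ := S.exists_L_move
    exact ⟨⟨l, hL hl⟩, ⟨m, Subtype.ext hm⟩, fun h => hne (congrArg Subtype.val h)⟩
  central := by
    haveI : Fact (Nat.Prime 2) := ⟨Nat.prime_two⟩
    obtain ⟨R, hR⟩ := ((isPGroup_E (S := S)).comap_of_injective H.subtype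
      Subtype.val_injective).exists_le_sylow
    refine ⟨R, fun x hx => Subtype.ext ?_⟩
    have hE : S.E ≤ (R : Subgroup H).map H.subtype := fun e he =>
      ⟨⟨e, hW (E_le_range he)⟩, hR he, rfl⟩
    exact (CE_comm (S.mem_CE_of_two_group (R.isPGroup'.map _) hE ⟨x, hx, rfl⟩) t_mem_E).symm

/-- Conjugates of `t` in a subgroup containing the model and `L` are conjugate inside it. -/
theorem fused_in {H : Subgroup G} (hW : S.phi.range ≤ H) (hL : S.L ≤ H) {u : G} (hu : S.Cls u)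
    (huH : u ∈ H) : ∃ h ∈ H, h * S.t * h⁻¹ = u := by
  haveI : Fact (Nat.Prime 2) := ⟨Nat.prime_two⟩
  obtain ⟨R, hR⟩ := ((isPGroup_E (S := S)).comap_of_injective H.subtype
    Subtype.val_injective).exists_le_sylow
  have hzp : IsPGroup 2 (Subgroup.zpowers (⟨u, huH⟩ : H)) :=
    IsPGroup.of_card (n := 1) (by
      rw [Nat.card_zpowers, pow_one]
      exact orderOf_eq_prime (Subtype.ext (show u ^ 2 = 1 by rw [pow_two, hu.sq]))
        fun h => hu.ne_one (congrArg Subtype.val h))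
  obtain ⟨Q, hQ⟩ := hzp.exists_le_sylow
  obtain ⟨c, hc⟩ := MulAction.exists_smul_eq H Q R
  have hmem : (c : G) * u * (c : G)⁻¹ ∈ S.E := by
    refine S.cls_mem_E (Q := (R : Subgroup H).map H.subtype) (R.isPGroup'.map _)
      (fun e he => ⟨⟨e, hW (E_le_range he)⟩, hR he, rfl⟩) ⟨c * ⟨u, huH⟩ * c⁻¹, ?_, rfl⟩
      (hu.conj _)
    rw [← hc, Sylow.smul_def, Sylow.pointwise_smul_def]
    exact ⟨_, hQ (Subgroup.mem_zpowers _), rfl⟩
  obtain ⟨m, hm, hmu⟩ := hmem
  have hm1 : m ≠ 1 := by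
    rintro rfl
    rw [map_one] at hmu
    exact (hu.conj _).ne_one hmu.symm
  obtain ⟨g, hg⟩ := isConj_iff.1 ((S.restrict H hW hL).cls_of_mem_E hm hm1)
  refine ⟨(c : G)⁻¹ * g, mul_mem (inv_mem c.2) g.2, ?_⟩
  have hg' : (g : G) * S.t * (g : G)⁻¹ = S.phi m := congrArg Subtype.val hg
  calc (c : G)⁻¹ * g * S.t * ((c : G)⁻¹ * g)⁻¹
      = (c : G)⁻¹ * ((g : G) * S.t * (g : G)⁻¹) * c := by group
    _ = u := by rw [hg', hmu]; group

/-- The map carrying the closure in `H` to a subgroup of `G`. -/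
theorem map_normalClosure_restrict (H : Subgroup G) (hW : S.phi.range ≤ H) (hL : S.L ≤ H) :
    (Subgroup.normalClosure {(S.restrict H hW hL).t}).map H.subtype = S.closureIn H := by
  refine le_antisymm ?_ ((Subgroup.closure_le _).2 ?_)
  · refine Subgroup.map_le_iff_le_comap.2 ((Subgroup.closure_le _).2 fun x hx => ?_)
    obtain ⟨a, ha, hax⟩ := Group.mem_conjugatesOfSet_iff.1 hx
    rw [Set.mem_singleton_iff.1 ha] at hax
    obtain ⟨c, rfl⟩ := isConj_iff.1 hax
    exact S.conj_mem_closureIn c.2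
  · rintro _ ⟨h, hh, rfl⟩
    exact ⟨⟨h, hh⟩ * (S.restrict H hW hL).t * ⟨h, hh⟩⁻¹,
      (Subgroup.normalClosure_normal (s := {(S.restrict H hW hL).t})).conj_mem
        (S.restrict H hW hL).t (Subgroup.subset_normalClosure (Set.mem_singleton _)) ⟨h, hh⟩, rfl⟩

section Closure

variable {H : Subgroup G} (hW : S.phi.range ≤ H) (hN : S.N ≤ H)
include hW hN

theorem range_le_closureIn : S.phi.range ≤ S.closureIn H :=
  S.range_le_of fun u hu hcl => by
    obtain ⟨h, hh, rfl⟩ := S.fused_in hW (L_le_N.trans hN) hcl (hW hu)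
    exact S.conj_mem_closureIn hh

theorem L_le_closureIn : S.L ≤ S.closureIn H :=
  (Subgroup.closure_le _).2 fun _ ⟨n, hn, hx⟩ =>
    hx ▸ S.closureIn_normalized (hN hn) (S.range_le_closureIn hW hN ⟨mR, rfl⟩)

theorem fused_closureIn {u : G} (hu : S.Cls u) (huK : u ∈ S.closureIn H) :
    ∃ k ∈ S.closureIn H, k * S.t * k⁻¹ = u :=
  S.fused_in (S.range_le_closureIn hW hN) (S.L_le_closureIn hW hN) hu huK

/-- A subgroup is the product of the closure of `t` in it and `F`. -/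
theorem exists_factor {g : G} (hg : g ∈ H) :
    ∃ x ∈ S.closureIn H, ∃ f ∈ S.F, g = x * f := by
  obtain ⟨k, hk, hkt⟩ := S.fused_closureIn hW hN (cls_iff.2 ⟨g, rfl⟩) (S.conj_mem_closureIn hg)
  obtain ⟨m, f, hf, hmf⟩ := S.exists_cent (c := k⁻¹ * g) (by
    calc k⁻¹ * g * S.t = k⁻¹ * (g * S.t * g⁻¹) * g := by group
      _ = k⁻¹ * (k * S.t * k⁻¹) * g := by rw [hkt]
      _ = S.t * (k⁻¹ * g) := by group)
  refine ⟨k * S.phi m, mul_mem hk (S.range_le_closureIn hW hN ⟨m, rfl⟩), f, hf, ?_⟩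
  rw [mul_assoc, ← hmf, mul_inv_cancel_left]

theorem closureIn_self : S.closureIn (S.closureIn H) = S.closureIn H := by
  refine le_antisymm (S.closureIn_le (S.t_mem_closureIn H)) ((Subgroup.closure_le _).2 ?_)
  rintro _ ⟨h, hh, rfl⟩
  obtain ⟨k, hk, hkt⟩ := S.fused_closureIn hW hN (cls_iff.2 ⟨h, rfl⟩) (S.conj_mem_closureIn hh)
  exact hkt ▸ S.conj_mem_closureIn hk

end Closure

end Setting

end CfsgLib.J1Closure
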