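import Mathlib.Combinatorics.Pigeonhole
import Cfsg.Agent.J1Closure.Restrict
import Cfsg.Agent.J1Closure.Facts

/-!
# The subgroup `J × F` cannot be a proper subgroup controlling the centralisers of `F`

If `F` has even order an element `tk` centralises a conjugate of `t` outside `M` and hence a
conjugate carrying `t` to another involution of `E` inside `M`; if `F` has odd order the conjugates
of `t` swapping two points of `G/M` are too many.
-/

set_option autoImplicit false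
set_option linter.style.haveILetI false

namespace CfsgLib.J1Closure

open CfsgLib.J1Order (Mdl mT mV mR mU mP mT_mul mT_facts sq_mP)

universe u

section Dihedral

variable {G : Type*} [Group G] {u w : G}

theorem mul_pow_semiconj (hw : w * w = 1) (hu : u * u = 1) (k : ℕ) :
    w * (w * u) ^ k = (u * w) ^ k * w := by
  have h : SemiconjBy w (w * u) (u * w) := by
    show w * (w * u) = u * w * w
    rw [← mul_assoc, hw, one_mul, mul_assoc, hw, mul_one]
  exact h.pow_right k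

theorem pow_inv (hw : w * w = 1) (hu : u * u = 1) (k : ℕ) :
    ((u * w) ^ k)⁻¹ = (w * u) ^ k := by
  rw [← inv_pow, mul_inv_rev, inv_eq_of_mul_eq_one_right hw, inv_eq_of_mul_eq_one_right hu]

/-- Two involutions with product of odd order are conjugate by a power of their product. -/
theorem conj_of_odd (hw : w * w = 1) (hu : u * u = 1) (h : Odd (orderOf (w * u))) :
    ∃ k : ℕ, (u * w) ^ k * w * ((u * w) ^ k)⁻¹ = u := by
  obtain ⟨i, hi⟩ := h
  refine ⟨i + 1, ?_⟩
  have ho : (u * w) ^ orderOf (w * u) = 1 := by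
    rw [← inv_eq_one, pow_inv hw hu, pow_orderOf_eq_one]
  rw [pow_inv hw hu, mul_assoc, mul_pow_semiconj hw hu, ← mul_assoc, ← pow_add,
    show i + 1 + (i + 1) = orderOf (w * u) + 1 by omega, pow_succ, ho, one_mul, mul_assoc, hw,
    mul_one]

/-- The involution in the centre of the dihedral group generated by `w` and `u`. -/
theorem central_of_even (hw : w * w = 1) (hu : u * u = 1) {n : ℕ} (hn : orderOf (w * u) = 2 * n)
    (hn0 : n ≠ 0) :
    (w * u) ^ n ≠ 1 ∧ (w * u) ^ n * (w * u) ^ n = 1 ∧ w * (w * u) ^ n = (w * u) ^ n * w ∧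
      u * (w * u) ^ n = (w * u) ^ n * u := by
  have hsq : (w * u) ^ n * (w * u) ^ n = 1 := by rw [← pow_add, ← two_mul, ← hn, pow_orderOf_eq_one]
  have he : (u * w) ^ n = (w * u) ^ n := by
    rw [← pow_inv hu hw n, inv_eq_of_mul_eq_one_right hsq]
  have hwc : w * (w * u) ^ n = (w * u) ^ n * w := by rw [mul_pow_semiconj hw hu, he]
  refine ⟨fun h => ?_, hsq, hwc, ?_⟩
  · have := Nat.le_of_dvd (Nat.pos_of_ne_zero hn0) (orderOf_dvd_of_pow_eq_one h)
    omega
  · calc u * (w * u) ^ n = u * (u * w) ^ n := by rw [he]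
      _ = (w * u) ^ n * u := mul_pow_semiconj hu hw n

/-- The product of `w` with a power of `w u` is a conjugate of `w` or of `u`. -/
theorem mul_pow_conj (hw : w * w = 1) (hu : u * u = 1) (n : ℕ) :
    ∃ (m : ℕ), w * (w * u) ^ n = (u * w) ^ m * w * ((u * w) ^ m)⁻¹ ∨
      w * (w * u) ^ n = (u * w) ^ m * u * ((u * w) ^ m)⁻¹ := by
  obtain ⟨m, rfl | rfl⟩ := Nat.even_or_odd' n
  · refine ⟨m, Or.inl ?_⟩
    rw [pow_inv hw hu, two_mul, pow_add, ← mul_assoc, mul_pow_semiconj hw hu]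
  · refine ⟨m, Or.inr ?_⟩
    rw [pow_inv hw hu, show 2 * m + 1 = m + 1 + m by omega, pow_add, pow_add, pow_one,
      ← mul_assoc, ← mul_assoc, mul_pow_semiconj hw hu, mul_assoc ((u * w) ^ m) w,
      ← mul_assoc w w, hw, one_mul]

end Dihedral

namespace Setting

variable {G : Type u} [Group G] [Finite G] (S : Setting G) (M : Subgroup G)

/-- The hypotheses on the subgroup `M = J × F`. -/
structure Strong : Prop where
  hW : S.phi.range ≤ M
  hN : S.N ≤ M
  hC : ∀ c, c * S.t = S.t * c → c ∈ M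
  iso : Cfsg.Spor.IsoJ1 (S.closureIn M)
  commute : ∀ j ∈ S.closureIn M, ∀ f ∈ S.F, j * f = f * j
  disjoint : ∀ x ∈ S.closureIn M, x ∈ S.F → x = 1
  centF : ∀ f ∈ S.F, f ≠ 1 → ∀ x : G, x * f = f * x → x ∈ M
  outside : ∃ u, S.Cls u ∧ u ∉ M

variable {S M} (H : S.Strong M)
include H

theorem Strong.F_le {f : G} (hf : f ∈ S.F) : f ∈ M := H.hC f (F_comm_t hf)

theorem Strong.t_mem : S.t ∈ M := S.t_mem_of_range H.hW

theorem Strong.J_le : S.closureIn M ≤ M := S.closureIn_le H.t_mem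

/-- An element moving `t` into `M` lies in `M`. -/
theorem Strong.mem_of_conj {g : G} (hg : g * S.t * g⁻¹ ∈ M) : g ∈ M := by
  obtain ⟨m, hm, hmt⟩ := S.fused_in H.hW (L_le_N.trans H.hN) (cls_iff.2 ⟨g, rfl⟩) hg
  have := H.hC (m⁻¹ * g) (by
    calc m⁻¹ * g * S.t = m⁻¹ * (g * S.t * g⁻¹) * g := by group
      _ = m⁻¹ * (m * S.t * m⁻¹) * g := by rw [hmt]
      _ = S.t * (m⁻¹ * g) := by group)
  simpa using mul_mem hm this

theorem Strong.mem_of_commute {w x : G} (hw : S.Cls w) (hwM : w ∈ M) (hx : x * w = w * x) :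
    x ∈ M := by
  obtain ⟨m, hm, rfl⟩ := S.fused_in H.hW (L_le_N.trans H.hN) hw hwM
  have := H.hC (m⁻¹ * x * m) (by
    calc m⁻¹ * x * m * S.t = m⁻¹ * (x * (m * S.t * m⁻¹)) * m := by group
      _ = m⁻¹ * (m * S.t * m⁻¹ * x) * m := by rw [hx]
      _ = S.t * (m⁻¹ * x * m) := by group)
  have h' := mul_mem (mul_mem hm this) (inv_mem hm)
  rwa [show m * (m⁻¹ * x * m) * m⁻¹ = x by group] at h'

theorem Strong.cls_mem_J {w : G} (hw : S.Cls w) (hwM : w ∈ M) : w ∈ S.closureIn M := by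
  obtain ⟨m, hm, rfl⟩ := S.fused_in H.hW (L_le_N.trans H.hN) hw hwM
  exact S.conj_mem_closureIn hm

theorem Strong.not_cls_F {z : G} (hz : z ∈ S.F) : ¬ S.Cls z := fun h =>
  h.ne_one (H.disjoint z (H.cls_mem_J h (H.F_le hz)) hz)

theorem Strong.J_involution {x : G} (hx : x ∈ S.closureIn M) (hxx : x * x = 1) (hx1 : x ≠ 1) :
    ∃ a ∈ S.closureIn M, a * S.t * a⁻¹ = x := by
  obtain ⟨a, ha⟩ := iso_isConj H.iso (x := ⟨S.t, S.t_mem_closureIn M⟩) (y := ⟨x, hx⟩)
    (Subtype.ext t_mul_t) (fun h => S.t_ne_one (congrArg Subtype.val h))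
    (Subtype.ext hxx) (fun h => hx1 (congrArg Subtype.val h))
  exact ⟨a, a.2, congrArg Subtype.val ha⟩

/-- Conjugates of `t` inside and outside `M` have product of odd order. -/
theorem Strong.odd_product {w u : G} (hw : S.Cls w) (hwM : w ∈ M) (hu : S.Cls u) (huM : u ∉ M) :
    Odd (orderOf (w * u)) := by
  rw [← Nat.not_even_iff_odd]
  rintro ⟨n, hn⟩
  rw [← two_mul] at hn
  have hn0 : n ≠ 0 := fun h0 => (orderOf_pos (w * u)).ne' (by rw [hn, h0, mul_zero])
  obtain ⟨hi1, -, hwi, hui⟩ := central_of_even hw.sq hu.sq hn hn0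
  set i := (w * u) ^ n with hi
  have hwiM : S.Cls (w * i) := by
    obtain ⟨m, hm | hm⟩ := mul_pow_conj hw.sq hu.sq n <;> rw [hi, hm]
    · exact hw.conj _
    · exact hu.conj _
  have hic : S.Cls i := by
    have := hw.mul hwiM (by rw [mul_assoc, ← hwi])
      (fun h => hi1 (by simpa using h))
    rwa [← mul_assoc, hw.sq, one_mul] at this
  exact huM (H.mem_of_commute hic (H.mem_of_commute hw hwM hwi.symm) hui)

/-- The complement has odd order. -/
theorem Strong.no_involution_F {z : G} (hz : z ∈ S.F) (hzz : z * z = 1) : z = 1 := by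
  by_contra hz1
  obtain ⟨u, hu, huM⟩ := H.outside
  -- the central involution of the dihedral group on `z` and `u`
  obtain ⟨n, hn⟩ : Even (orderOf (z * u)) := by
    by_contra hodd
    obtain ⟨k, hk⟩ := conj_of_odd hzz hu.sq (Nat.not_even_iff_odd.1 hodd)
    exact H.not_cls_F hz (Cls.of_conj (S := S) (hk.symm ▸ hu))
  rw [← two_mul] at hn
  have hn0 : n ≠ 0 := fun h0 => (orderOf_pos (z * u)).ne' (by rw [hn, h0, mul_zero])
  obtain ⟨hj1, hjj, hzj, huj⟩ := central_of_even hzz hu.sq hn hn0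
  have hjM : (z * u) ^ n ∈ M := H.centF z hz hz1 _ hzj.symm
  obtain ⟨h, hh, k, hk, hjk⟩ := S.exists_factor H.hW H.hN hjM
  rw [hjk] at hjj huj
  have hhk := H.commute h hh k hk
  have hh2 : h * h = (k * k)⁻¹ := by
    refine eq_inv_of_mul_eq_one_left ?_
    rw [← hjj, mul_assoc h k, ← mul_assoc k h, ← hhk]
    simp only [mul_assoc]
  have hhh : h * h = 1 := H.disjoint _ (mul_mem hh hh) (hh2 ▸ inv_mem (mul_mem hk hk))
  by_cases h1 : h = 1
  · rw [h1, one_mul] at huj hjk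
    exact huM (H.centF k hk (fun hk1 => hj1 (hjk.trans hk1)) u huj)
  obtain ⟨a, ha, rfl⟩ := H.J_involution hh hhh h1
  -- move to `t k`
  have hak : a * k = k * a := H.commute a ha k hk
  set u' := a⁻¹ * u * a with hu'
  have hu'c : S.Cls u' := by
    have := hu.conj a⁻¹
    rwa [inv_inv] at this
  have hu'M : u' ∉ M := fun hm => huM (by
    have := mul_mem (mul_mem (H.J_le ha) hm) (inv_mem (H.J_le ha))
    rwa [hu', show a * (a⁻¹ * u * a) * a⁻¹ = u by group] at this)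
  have hu'k : Commute u' (S.t * k) := by
    show u' * (S.t * k) = S.t * k * u'
    have e : S.t * k = a⁻¹ * (a * S.t * a⁻¹ * k) * a := by
      rw [mul_assoc (a * S.t), show a⁻¹ * k = k * a⁻¹ from (Commute.inv_left hak).eq]
      group
    rw [e, hu']
    calc a⁻¹ * u * a * (a⁻¹ * (a * S.t * a⁻¹ * k) * a) = a⁻¹ * (u * (a * S.t * a⁻¹ * k)) * a := by
          group
      _ = a⁻¹ * (a * S.t * a⁻¹ * k * u) * a := by rw [huj]
      _ = a⁻¹ * (a * S.t * a⁻¹ * k) * a * (a⁻¹ * u * a) := by group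
  have htk : Commute S.t (S.t * k) := by
    show S.t * (S.t * k) = S.t * k * S.t
    rw [mul_assoc S.t k, F_comm_t hk]
  obtain ⟨hvP, hv1, hvT, -⟩ := vv_facts.2.2.2.2 0
  have hvc : S.Cls (S.phi (vv 0)) := S.cls_of_mem_E hvP hv1
  have hvk : Commute (S.phi (vv 0)) (S.t * k) :=
    Commute.mul_right (comm_t (vv 0)) (F_comm hk (vv 0))
  obtain ⟨p, hp⟩ := conj_of_odd (t_mul_t (S := S)) hu'c.sq
    (H.odd_product cls_t H.t_mem hu'c hu'M)
  obtain ⟨q, hq⟩ := conj_of_odd hvc.sq hu'c.sq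
    (H.odd_product hvc (H.hW ⟨_, rfl⟩) hu'c hu'M)
  set g := ((u' * S.phi (vv 0)) ^ q)⁻¹ * (u' * S.t) ^ p with hg
  have hgt : g * S.t * g⁻¹ = S.phi (vv 0) := by
    calc g * S.t * g⁻¹ = ((u' * S.phi (vv 0)) ^ q)⁻¹ * ((u' * S.t) ^ p * S.t *
          ((u' * S.t) ^ p)⁻¹) * (u' * S.phi (vv 0)) ^ q := by rw [hg]; group
      _ = ((u' * S.phi (vv 0)) ^ q)⁻¹ * u' * (u' * S.phi (vv 0)) ^ q := by rw [hp]
      _ = ((u' * S.phi (vv 0)) ^ q)⁻¹ * ((u' * S.phi (vv 0)) ^ q * S.phi (vv 0) *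
          ((u' * S.phi (vv 0)) ^ q)⁻¹) * (u' * S.phi (vv 0)) ^ q := by rw [hq]
      _ = S.phi (vv 0) := by group
  have hgk : Commute g (S.t * k) :=
    (((hu'k.mul_left hvk).pow_left q).inv_left).mul_left ((hu'k.mul_left htk).pow_left p)
  have hgM : g ∈ M := H.mem_of_conj (hgt ▸ H.hW ⟨_, rfl⟩)
  obtain ⟨j, hj, f, hf, hgjf⟩ := S.exists_factor H.hW H.hN hgM
  have hk' : g * k * g⁻¹ = f * k * f⁻¹ := by
    rw [hgjf]
    calc j * f * k * (j * f)⁻¹ = j * (f * k * f⁻¹) * j⁻¹ := by group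
      _ = f * k * f⁻¹ * j * j⁻¹ := by
        rw [H.commute j hj _ (mul_mem (mul_mem hf hk) (inv_mem hf))]
      _ = f * k * f⁻¹ := mul_inv_cancel_right _ _
  have heq : S.phi (vv 0) * (f * k * f⁻¹) = S.t * k := by
    rw [← hgt, ← hk', conj_mul]
    exact mul_inv_eq_iff_eq_mul.2 hgk.eq
  have hmem : S.phi (mT * vv 0) ∈ S.F := by
    rw [map_mul, S.phi_T, show S.t * S.phi (vv 0) = k * (f * k * f⁻¹)⁻¹ by
      rw [eq_mul_inv_iff_mul_eq, mul_assoc, heq, ← mul_assoc, t_mul_t, one_mul]]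
    exact mul_mem hk (inv_mem (mul_mem (mul_mem hf hk) (inv_mem hf)))
  exact (vv_facts.2.2.2.2 0).2.2.2.2.1 (range_inf_F hmem)

theorem Strong.cls_of_involution' {i : G} (hi : i * i = 1) (hi1 : i ≠ 1) : S.Cls i := by
  haveI : Fact (Nat.Prime 2) := ⟨Nat.prime_two⟩
  obtain ⟨Q, hQ⟩ := (IsPGroup.of_card (n := 1) (show Nat.card (Subgroup.zpowers i) = 2 ^ 1 by
    rw [Nat.card_zpowers, pow_one]
    exact orderOf_eq_prime (by rw [pow_two, hi]) hi1)).exists_le_sylow
  obtain ⟨a, ha⟩ := MulAction.exists_smul_eq G Q S.P₀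
  have hmem : a * i * a⁻¹ ∈ S.P₀ := by
    rw [← ha, Sylow.smul_def]
    exact ⟨i, hQ (Subgroup.mem_zpowers i), rfl⟩
  obtain ⟨m, f, hf, hmf⟩ := S.exists_cent (P₀_comm hmem)
  have hm : m * m = 1 ∧ f * f = 1 := by
    have h2 : S.phi (m * m) * (f * f) = 1 := by
      have e : a * i * a⁻¹ * (a * i * a⁻¹) = 1 := by
        rw [conj_mul, hi, mul_one, mul_inv_cancel]
      rw [hmf, (show Commute (S.phi m) f from F_comm hf m).symm.mul_mul_mul_comm] at e
      rwa [map_mul]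
    have hmF : S.phi (m * m) ∈ S.F := by
      rw [eq_inv_of_mul_eq_one_left h2]; exact inv_mem (mul_mem hf hf)
    have := range_inf_F hmF
    rw [this, map_one, one_mul] at h2
    exact ⟨this, h2⟩
  have hf1 := H.no_involution_F hf hm.2
  rw [hf1, mul_one] at hmf
  refine Cls.of_conj (g := a) ?_
  rw [hmf]
  refine S.cls_of_involution hm.1 fun h => hi1 ?_
  rw [h, map_one, conj_eq_one_iff] at hmf
  exact hmf

/-- The contradiction. -/
theorem Strong.false (hF : ∃ f ∈ S.F, f ≠ 1) : False := by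
  classical
  haveI : Fact (Nat.Prime 2) := ⟨Nat.prime_two⟩
  obtain ⟨f₀, hf₀, hf₀1⟩ := hF
  set J := S.closureIn M with hJdef
  -- pairs of a point and an involution fixing it
  let I := {x : J // x * x = 1 ∧ x ≠ 1}
  let Ω := {q : G ⧸ M // q ≠ QuotientGroup.mk (1 : G)}
  have hI : ∀ x : I, S.Cls ((x.1 : J) : G) := fun x =>
    H.cls_of_involution' (congrArg Subtype.val x.2.1) fun h => x.2.2 (Subtype.ext h)
  have hout : ∀ (q : Ω) (x : I), q.1.out * ((x.1 : J) : G) * q.1.out⁻¹ ∉ M := by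
    intro q x hm
    obtain ⟨m, hm', hmt⟩ := S.fused_in H.hW (L_le_N.trans H.hN) (hI x) (H.J_le x.1.2)
    have := H.mem_of_conj (g := q.1.out * m) (by
      rwa [show q.1.out * m * S.t * (q.1.out * m)⁻¹ = q.1.out * (m * S.t * m⁻¹) * q.1.out⁻¹ by
        group, hmt])
    have hq : q.1.out ∈ M := by simpa using mul_mem this (inv_mem hm')
    refine q.2 ?_
    rw [← QuotientGroup.out_eq' q.1]
    exact QuotientGroup.eq.2 (by simpa using hq)
  let Φ : Ω × I → Ω := fun p => ⟨QuotientGroup.mk (p.1.1.out * ((p.2.1 : J) : G) * p.1.1.out⁻¹),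
    fun h => hout p.1 p.2 (by simpa using QuotientGroup.eq.1 h.symm)⟩
  haveI := Fintype.ofFinite Ω
  haveI := Fintype.ofFinite I
  obtain ⟨u, hu, huM⟩ := H.outside
  haveI : Nonempty Ω := ⟨⟨QuotientGroup.mk u, fun h =>
    huM (by simpa using QuotientGroup.eq.1 h.symm)⟩⟩
  have hcI : Fintype.card I = 1463 := by
    rw [← Nat.card_eq_fintype_card]; exact iso_card_involutions H.iso
  obtain ⟨y, hy⟩ := Fintype.exists_le_card_fiber_of_mul_le_card Φ (n := 1463)
    (by rw [Fintype.card_prod, hcI])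
  set Fib := Finset.univ.filter (fun p => Φ p = y) with hFib
  obtain ⟨p₀, hp₀⟩ : Fib.Nonempty := Finset.card_pos.1 (by omega)
  let c : Ω × I → G := fun p => p.1.1.out * ((p.2.1 : J) : G) * p.1.1.out⁻¹
  have hc : ∀ p, S.Cls (c p) := fun p => (hI p.2).conj _
  set u₀ := c p₀ with hu₀
  have hu₀M : u₀ ∉ M := hout p₀.1 p₀.2
  let D : Subgroup G := M ⊓ M.comap (MulAut.conj u₀).toMonoidHom
  -- no involution in the intersection
  have hDinv : ∀ i : G, i * i = 1 → i ∈ D → i = 1 := by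
    intro i hi hiD
    by_contra hi1
    obtain ⟨m, hm, rfl⟩ := S.fused_in H.hW (L_le_N.trans H.hN) (H.cls_of_involution' hi hi1) hiD.1
    have h2 : u₀ * (m * S.t * m⁻¹) * u₀⁻¹ ∈ M := hiD.2
    have := H.mem_of_conj (g := u₀ * m) (by
      rwa [show u₀ * m * S.t * (u₀ * m)⁻¹ = u₀ * (m * S.t * m⁻¹) * u₀⁻¹ by group])
    exact hu₀M (by simpa using mul_mem this (inv_mem hm))
  have hDodd : ¬ 2 ∣ Nat.card D := by
    intro h2
    obtain ⟨x, hx⟩ := exists_prime_orderOf_dvd_card' (G := D) 2 h2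
    rw [← Subgroup.orderOf_coe] at hx
    have hxx : (x : G) * x = 1 := by rw [← pow_two, ← hx, pow_orderOf_eq_one]
    rw [hDinv x hxx x.2, orderOf_one] at hx
    omega
  -- the lower bound
  have hlow : 1463 ≤ Nat.card D := by
    have hmemD : ∀ p ∈ Fib, u₀⁻¹ * c p ∈ D := by
      intro p hp
      have h1 : (QuotientGroup.mk u₀ : G ⧸ M) = QuotientGroup.mk (c p) := congrArg Subtype.val
        ((Finset.mem_filter.1 hp₀).2.trans (Finset.mem_filter.1 hp).2.symm)
      refine ⟨QuotientGroup.eq.1 h1, ?_⟩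
      have h2 := QuotientGroup.eq.1 h1.symm
      rw [inv_eq_of_mul_eq_one_right (hc p).sq] at h2
      show u₀ * (u₀⁻¹ * c p) * u₀⁻¹ ∈ M
      rwa [mul_inv_cancel_left, inv_eq_of_mul_eq_one_right (hc p₀).sq]
    refine hy.trans ?_
    rw [← Fintype.card_coe Fib, ← Nat.card_eq_fintype_card]
    refine Nat.card_le_card_of_injective (fun p => (⟨_, hmemD p p.2⟩ : D)) fun p q h => ?_
    have h' : c p = c q := mul_left_cancel (congrArg Subtype.val h)
    obtain ⟨⟨⟨a, ha⟩, x⟩, hp⟩ := p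
    obtain ⟨⟨⟨b, hb⟩, x'⟩, hq⟩ := q
    change a.out * ((x.1 : J) : G) * a.out⁻¹ = b.out * ((x'.1 : J) : G) * b.out⁻¹ at h'
    obtain ⟨m, hm, hmt⟩ := S.fused_in H.hW (L_le_N.trans H.hN) (hI x) (H.J_le x.1.2)
    have hmem := H.mem_of_conj (g := b.out⁻¹ * a.out * m) (by
      rw [show b.out⁻¹ * a.out * m * S.t * (b.out⁻¹ * a.out * m)⁻¹ =
        b.out⁻¹ * (a.out * (m * S.t * m⁻¹) * a.out⁻¹) * b.out by group, hmt, h',
        show b.out⁻¹ * (b.out * ((x'.1 : J) : G) * b.out⁻¹) * b.out = ((x'.1 : J) : G) by group]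
      exact H.J_le x'.1.2)
    have hab : b.out⁻¹ * a.out ∈ M := by simpa using mul_mem hmem (inv_mem hm)
    obtain rfl : b = a := by
      rw [← QuotientGroup.out_eq' a, ← QuotientGroup.out_eq' b]
      exact QuotientGroup.eq.2 hab
    obtain rfl : x = x' :=
      Subtype.ext (Subtype.ext (mul_left_cancel (mul_right_cancel h')))
    rfl
  -- the projection to `J`
  have huniq : ∀ {j j' k k' : G}, j ∈ J → j' ∈ J → k ∈ S.F → k' ∈ S.F → j * k = j' * k' →
      j = j' ∧ k = k' := by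
    intro j j' k k' hj hj' hk hk' h
    have e : j'⁻¹ * j = k' * k⁻¹ := by
      rw [eq_mul_inv_iff_mul_eq, mul_assoc, h, inv_mul_cancel_left]
    have h1 : j'⁻¹ * j = 1 :=
      H.disjoint _ (mul_mem (inv_mem hj') hj) (e ▸ mul_mem hk' (inv_mem hk))
    have h2 : j = j' := (inv_mul_eq_one.1 h1).symm
    exact ⟨h2, mul_left_cancel (h2 ▸ h)⟩
  choose pj hpj pf hpf hdec using fun m : M => S.exists_factor H.hW H.hN m.2
  let pr : M →* J := MonoidHom.mk' (fun m => ⟨pj m, hpj m⟩) fun a b => Subtype.ext (by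
    refine (huniq (hpj (a * b)) (mul_mem (hpj a) (hpj b)) (hpf (a * b)) (mul_mem (hpf a) (hpf b)) ?_).1
    rw [← hdec, Subgroup.coe_mul, hdec a, hdec b,
      (show Commute (pj b) (pf a) from H.commute _ (hpj b) _ (hpf a)).symm.mul_mul_mul_comm])
  have hprF : ∀ m : M, pr m = 1 → (m : G) ∈ S.F := by
    intro m hm
    rw [hdec m, show pj m = 1 from congrArg Subtype.val hm, one_mul]
    exact hpf m
  let π : D →* J := pr.comp (Subgroup.inclusion inf_le_left)
  let ρ : D →* J := pr.comp (MonoidHom.mk' (fun x : D => (⟨u₀ * x * u₀⁻¹, x.2.2⟩ : M))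
    fun a b => Subtype.ext (by
      show u₀ * ((a : G) * b) * u₀⁻¹ = _
      exact conj_mul.symm))
  -- the kernel embeds by the other projection
  have hker : Nat.card π.ker ≤ 19 := by
    have hinj : Function.Injective (ρ.comp π.ker.subtype) := by
      refine (injective_iff_map_eq_one _).2 fun z hρ => ?_
      obtain ⟨x, hx⟩ := z
      by_contra hne
      have hxF : (x : G) ∈ S.F := hprF _ hx
      have hx1 : (x : G) ≠ 1 := fun h => hne (Subtype.ext (Subtype.ext h))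
      have hyF : u₀ * x * u₀⁻¹ ∈ S.F := hprF ⟨u₀ * x * u₀⁻¹, x.2.2⟩ hρ
      have ht : u₀ * S.t * u₀⁻¹ ∈ M := H.centF _ hyF (fun h => hx1 (conj_eq_one_iff.1 h)) _ (by
        rw [conj_mul, conj_mul, ← F_comm_t hxF])
      exact hu₀M (H.mem_of_conj ht)
    rw [Nat.card_congr (MonoidHom.ofInjective hinj).toEquiv]
    refine card_le_nineteen H.iso _ (fun h2 => hDodd (h2.trans ?_)) ?_
    · exact (Subgroup.card_range_dvd _).trans (Subgroup.card_subgroup_dvd_card _)
    rintro _ ⟨⟨x, hx⟩, rfl⟩ hne cJ hcJ hcJ1 hcomm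
    have hxF : (x : G) ∈ S.F := hprF _ hx
    have hx1 : (x : G) ≠ 1 := fun h => hne (by
      rw [show (⟨x, hx⟩ : π.ker) = 1 from Subtype.ext (Subtype.ext h), map_one])
    set y : M := ⟨u₀ * x * u₀⁻¹, x.2.2⟩ with hydef
    have hc1 : (cJ : G) * pj y = pj y * cJ := congrArg Subtype.val hcomm
    have hcy : Commute (cJ : G) (y : G) := by
      rw [hdec y]
      exact Commute.mul_right hc1 (H.commute _ cJ.2 _ (hpf y))
    have hcx : u₀⁻¹ * cJ * u₀ ∈ M := by
      refine H.centF _ hxF hx1 _ ?_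
      calc u₀⁻¹ * cJ * u₀ * x = u₀⁻¹ * (cJ * (y : G)) * u₀ := by rw [hydef]; group
        _ = u₀⁻¹ * ((y : G) * cJ) * u₀ := by rw [hcy.eq]
        _ = x * (u₀⁻¹ * cJ * u₀) := by rw [hydef]; group
    refine hcJ1 (Subtype.ext (hDinv _ (congrArg Subtype.val hcJ) ⟨H.J_le cJ.2, ?_⟩))
    show u₀ * (cJ : G) * u₀⁻¹ ∈ M
    rwa [inv_eq_of_mul_eq_one_right (hc p₀).sq] at hcx ⊢
  have himg : Nat.card π.range ≤ 76 :=
    (odd_subgroup H.iso _ fun h2 => hDodd (h2.trans (Subgroup.card_range_dvd π))).1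
  have hmul := π.ker.card_mul_index
  rw [Subgroup.index_ker] at hmul
  have := Nat.mul_le_mul hker himg
  omega

end Setting

end CfsgLib.J1Closure
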