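import Mathlib.GroupTheory.Sylow
import Cfsg.Agent.J1Order.Model

/-!
# Facts about `Z/2 × A₅` for the weak closure of an involution
-/

set_option autoImplicit false
set_option maxRecDepth 100000
set_option synthInstance.maxSize 1000
set_option maxHeartbeats 400000
set_option linter.style.haveILetI false

open Equiv

namespace CfsgLib.J1Closure

open CfsgLib.J1Order

/-- The three involutions of the second factor inside `mP`. -/
def vv (k : Fin 3) : Mdl := mR ^ (k : ℕ) * mV * (mR ^ (k : ℕ))⁻¹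

theorem inv_prod : ∀ n : Mdl, ∃ a : Mdl, a * a = 1 ∧ a * n * (a * n) = 1 := by decide +kernel

theorem inv_class : ∀ m : Mdl, m * m = 1 → m ≠ 1 → m ≠ mT →
    ∃ k : Mdl, k * m * k⁻¹ = mV ∨ k * m * k⁻¹ = mT * mV := by decide +kernel

theorem vv_facts : vv 0 = mV ∧ vv 0 * vv 1 = vv 2 ∧ vv 1 * vv 2 = vv 0 ∧ mT * (mT * mV) = mV ∧
    (∀ k, vv k ∈ mP ∧ vv k ≠ 1 ∧ vv k ≠ mT ∧ (vv k).1 = 1 ∧ mT * vv k ≠ 1 ∧ mT * vv k ∈ mP ∧
      mR * vv k * mR⁻¹ = vv (k + 1)) := by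
  decide +kernel

theorem vv_injective : ∀ i j : Fin 3, vv i = vv j → i = j := by decide +kernel

theorem mem_vv : ∀ m : Mdl, m ∈ mP → m ≠ 1 → m.1 = 1 → ∃ k, m = vv k := by decide +kernel

theorem mP_cases : ∀ m : Mdl, m ∈ mP → m = 1 ∨ m = mT ∨ (∃ k, m = vv k) ∨
    (∃ k, m = mT * vv k) := by
  decide +kernel

theorem T_swap : mT * vv 1 * (mT * vv 2) = vv 0 ∧ mT * vv 2 * (mT * vv 1) = vv 0 := by
  decide +kernel

theorem cent_mP : ∀ m : Mdl, m * vv 0 = vv 0 * m → m * vv 1 = vv 1 * m → m ∈ mP := by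
  decide +kernel

theorem cent_R : ∀ m : Mdl, m ∈ mP → m * mR = mR * m → m = 1 ∨ m = mT := by decide +kernel

theorem pow_thirty : ∀ w : Mdl, w ^ 30 = 1 := by decide +kernel

theorem inv_normalizing : ∀ w : Mdl, w * w = 1 → w * vv 0 * w⁻¹ ∈ mP → w * vv 1 * w⁻¹ ∈ mP →
    w ∈ mP := by
  decide +kernel

/-- A homomorphism to a group of order two kills the second factor. -/
theorem alt_square : ∀ a : alternatingGroup (Fin 5), ∃ b : alternatingGroup (Fin 5),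
    ∃ c : alternatingGroup (Fin 5), c * c = a * (b * b) := by
  decide +kernel

theorem R_candidates : ∀ m : Mdl, m.1 = 1 → m * vv 0 * m⁻¹ = vv 1 → m * vv 1 * m⁻¹ = vv 2 →
    ∃ x : Mdl, x ∈ mP ∧ x * m * x⁻¹ = mR := by
  decide +kernel

theorem U_candidates : ∀ m : Mdl, m.1 = 1 → m * m = 1 → (m * mR) ^ 5 = 1 → (m * mV) ^ 3 = 1 →
    (m * (mR * mV)) ^ 2 = 1 → m = mU := by
  decide +kernel

theorem U_orders : (mU * mR) ^ 5 = 1 ∧ (mU * mV) ^ 3 = 1 ∧ (mU * (mR * mV)) ^ 2 = 1 := by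
  decide +kernel

theorem vv_shift : ∀ i : Fin 3, mR ^ ((-i : Fin 3) : ℕ) * vv i * (mR ^ ((-i : Fin 3) : ℕ))⁻¹ = vv 0 := by
  decide +kernel

/-- The permutation of the three involutions induced by an odd element. -/
def sig : Fin 3 → Fin 3 := ![0, 2, 1]

theorem sig_facts : ∀ k, (vv k * vv (sig k) = 1 ∨ vv k * vv (sig k) = vv 0) ∧
    (mT * vv k * (mT * vv (sig k)) = 1 ∨ mT * vv k * (mT * vv (sig k)) = vv 0) := by
  decide +kernel

theorem vv_zero_two : vv 0 * vv 2 = vv 1 ∧ mU.1 = 1 ∧ mR.1 = 1 ∧ mU * mU = 1 := by decide +kernel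

/-- The elements of a copy of `A₄`. -/
def word (p : Fin 3 × Fin 2 × Fin 2) : Mdl :=
  mR ^ (p.1 : ℕ) * vv 0 ^ (p.2.1 : ℕ) * vv 1 ^ (p.2.2 : ℕ)

theorem generated : ∀ n : Mdl, ∃ e i : Fin 2, ∃ p q : Fin 3 × Fin 2 × Fin 2,
    n = mT ^ (e : ℕ) * word p * mU ^ (i : ℕ) * word q := by
  decide +kernel

theorem eq_top_of_generators {M : Subgroup Mdl} (hT : mT ∈ M) (hR : mR ∈ M) (hV : vv 0 ∈ M)
    (hV' : vv 1 ∈ M) (hU : mU ∈ M) : M = ⊤ := by
  have hw : ∀ p, word p ∈ M := fun p =>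
    M.mul_mem (M.mul_mem (M.pow_mem hR _) (M.pow_mem hV _)) (M.pow_mem hV' _)
  refine eq_top_iff.2 fun n _ => ?_
  obtain ⟨e, i, p, q, rfl⟩ := generated n
  exact M.mul_mem (M.mul_mem (M.mul_mem (M.pow_mem hT _) (hw p)) (M.pow_mem hU _)) (hw q)

theorem fst_one (f : Mdl →* Mdl) {m : Mdl} (hm : m.1 = 1) : (f m).1 = 1 := by
  have h2 : ∀ k : Multiplicative (ZMod 2), k * k = 1 := by decide +kernel
  let g : alternatingGroup (Fin 5) →* Multiplicative (ZMod 2) :=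
    (MonoidHom.fst _ _).comp (f.comp (MonoidHom.inr _ _))
  obtain ⟨b, c, hc⟩ := alt_square m.2
  have h := congrArg g hc
  rw [map_mul, map_mul, map_mul, h2, h2, mul_one] at h
  rw [show m = (1, m.2) from Prod.ext hm rfl]
  exact h.symm

theorem card_mP' : Nat.card mP = 8 := by
  rw [Nat.card_eq_fintype_card]
  exact card_mP

/-- `mP` is a maximal 2-subgroup. -/
theorem mP_max {Q : Subgroup Mdl} (hQ : IsPGroup 2 Q) (h : mP ≤ Q) : Q = mP := by
  haveI : Fact (Nat.Prime 2) := ⟨Nat.prime_two⟩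
  refine (Subgroup.eq_of_le_of_card_ge h ?_).symm
  obtain ⟨k, hk⟩ := hQ.exists_card_eq
  have hd : 2 ^ k ∣ 120 := by
    rw [← hk, ← card_mdl, ← Nat.card_eq_fintype_card]
    exact Subgroup.card_subgroup_dvd_card Q
  rw [hk, card_mP']
  by_contra hc
  have hk4 : 4 ≤ k := by
    by_contra h'
    interval_cases k <;> norm_num at hc
  exact absurd ((pow_dvd_pow 2 hk4).trans hd) (by norm_num)

/-- Subgroups of order eight are conjugate to `mP`. -/
theorem exists_conj_mP {Q : Subgroup Mdl} (hQ : Nat.card Q = 8) :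
    ∃ w : Mdl, ∀ m ∈ Q, w * m * w⁻¹ ∈ mP := by
  haveI : Fact (Nat.Prime 2) := ⟨Nat.prime_two⟩
  obtain ⟨Q', hQ'⟩ := (IsPGroup.of_card (show Nat.card Q = 2 ^ 3 from hQ)).exists_le_sylow
  obtain ⟨P, hP⟩ := (IsPGroup.of_card (show Nat.card mP = 2 ^ 3 from card_mP')).exists_le_sylow
  have hP' : (P : Subgroup Mdl) = mP := mP_max P.isPGroup' hP
  obtain ⟨w, hw⟩ := MulAction.exists_smul_eq Mdl Q' P
  refine ⟨w, fun m hm => ?_⟩
  rw [← hP', ← hw, Sylow.smul_def, Sylow.pointwise_smul_def]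
  exact ⟨m, hQ' hm, rfl⟩

theorem card_orbit_V : Fintype.card {a : Mdl // a = mT ∨ a ∈ mP ∧ a ≠ 1 ∧ ∃ k, a = vv k} = 4 := by
  decide +kernel

theorem card_orbit_TV :
    Fintype.card {a : Mdl // a = mT ∨ a ∈ mP ∧ a ≠ 1 ∧ ∃ k, a = mT * vv k} = 4 := by
  decide +kernel

end CfsgLib.J1Closure
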