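import Mathlib.GroupTheory.Sylow
import Mathlib.Algebra.Group.Conj
import Cfsg.Agent.J1Closure.Model

/-!
# An involution whose weak closure in its centraliser is `Z/2 × A₅`: fusion

The conjugates of the involution generate a weakly closed elementary abelian group `E` of order
eight, all seven involutions of `E` are conjugate and the normaliser of `E` controls their fusion.
-/

set_option autoImplicit false
set_option linter.style.haveILetI false

namespace CfsgLib.J1Closure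

open CfsgLib.J1Order (Mdl mT mV mR mU mP mT_mul mT_facts sq_mP)

universe u

/-- An involution `t`, 2-central, with all its conjugates that centralise it inside the image of
`Z/2 × A₅` and at least one of them different from `t`. -/
structure Setting (G : Type u) [Group G] where
  /-- The involution. -/
  t : G
  /-- The embedding of the model. -/
  phi : Mdl →* G
  inj : Function.Injective phi
  phi_T : phi mT = t
  weak : ∀ g : G, g * t * g⁻¹ * t = t * (g * t * g⁻¹) → g * t * g⁻¹ ∈ phi.range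
  fused : ∃ g : G, g * t * g⁻¹ ∈ phi.range ∧ g * t * g⁻¹ ≠ t
  central : ∃ P : Sylow 2 G, ∀ x ∈ P, x * t = t * x

namespace Setting

variable {G : Type u} [Group G] (S : Setting G)

/-- The conjugates of `t`. -/
def Cls (u : G) : Prop := IsConj S.t u

/-- The elementary abelian subgroup of order eight. -/
def E : Subgroup G := mP.map S.phi

/-- The normaliser of `E`. -/
def N : Subgroup G := Subgroup.normalizer (S.E : Set G)

/-- The centraliser of the image of the model. -/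
def K : Subgroup G := Subgroup.centralizer (S.phi.range : Set G)

variable {S}

theorem cls_iff {u : G} : S.Cls u ↔ ∃ g, g * S.t * g⁻¹ = u := isConj_iff

theorem cls_t : S.Cls S.t := IsConj.refl _

theorem Cls.conj {u : G} (h : S.Cls u) (g : G) : S.Cls (g * u * g⁻¹) :=
  h.trans (isConj_iff.2 ⟨g, rfl⟩)

theorem Cls.of_conj {u g : G} (h : S.Cls (g * u * g⁻¹)) : S.Cls u := by
  have := h.conj g⁻¹
  rwa [show g⁻¹ * (g * u * g⁻¹) * g⁻¹⁻¹ = u by group] at this

theorem t_mul_t : S.t * S.t = 1 := by rw [← S.phi_T, ← map_mul, mT_facts.2.1, map_one]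

theorem t_ne_one : S.t ≠ 1 := by
  rw [← S.phi_T, Ne, map_eq_one_iff _ S.inj]
  exact mT_facts.1

theorem Cls.sq {u : G} (h : S.Cls u) : u * u = 1 := by
  obtain ⟨g, rfl⟩ := cls_iff.1 h
  rw [conj_mul, t_mul_t, mul_one, mul_inv_cancel]

theorem Cls.ne_one {u : G} (h : S.Cls u) : u ≠ 1 := by
  obtain ⟨g, rfl⟩ := cls_iff.1 h
  exact fun h => S.t_ne_one (conj_eq_one_iff.1 h)

theorem Cls.mem_range {u : G} (h : S.Cls u) (hc : u * S.t = S.t * u) : u ∈ S.phi.range := by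
  obtain ⟨g, rfl⟩ := cls_iff.1 h
  exact S.weak g hc

theorem comm_t (m : Mdl) : S.phi m * S.t = S.t * S.phi m := by
  rw [← S.phi_T, ← map_mul, ← map_mul, mT_mul]

theorem mem_E {m : Mdl} : S.phi m ∈ S.E ↔ m ∈ mP := Subgroup.mem_map_iff_mem S.inj

theorem E_le_range : S.E ≤ S.phi.range := fun _ ⟨m, _, hm⟩ => ⟨m, hm⟩

theorem comm_E {x y : G} (hx : x ∈ S.E) (hy : y ∈ S.E) : x * y = y * x := by
  have hsq : ∀ z ∈ S.E, z⁻¹ = z := by
    rintro _ ⟨m, hm, rfl⟩
    rw [← map_inv, inv_eq_of_mul_eq_one_right (sq_mP m hm)]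
  rw [← hsq _ (mul_mem hx hy), mul_inv_rev, hsq x hx, hsq y hy]

theorem sq_E {x : G} (hx : x ∈ S.E) : x * x = 1 := by
  obtain ⟨m, hm, rfl⟩ := hx
  rw [← map_mul, sq_mP m hm, map_one]

theorem t_mem_E : S.t ∈ S.E := S.phi_T ▸ mem_E.2 mT_facts.2.2.1

theorem card_E : Nat.card S.E = 8 := (Subgroup.card_map_of_injective S.inj).trans card_mP'

theorem isPGroup_E : IsPGroup 2 S.E :=
  IsPGroup.of_card (n := 3) (show Nat.card S.E = 2 ^ 3 from card_E)

theorem E_le_N : S.E ≤ S.N := Subgroup.le_normalizer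

theorem mem_range_iff_E {Q : Subgroup G} (hQ : IsPGroup 2 Q) (hE : S.E ≤ Q) {m : Mdl}
    (hm : S.phi m ∈ Q) : m ∈ mP := by
  rw [← mP_max (hQ.comap_of_injective S.phi S.inj) fun a ha => hE (mem_E.2 ha)]
  exact hm

theorem cls_mV_or : S.Cls (S.phi mV) ∨ S.Cls (S.phi (mT * mV)) := by
  obtain ⟨g, ⟨m, hm⟩, hne⟩ := S.fused
  have hcl : S.Cls (S.phi m) := cls_iff.2 ⟨g, hm.symm⟩
  have hmm : m * m = 1 := S.inj (by rw [map_mul, map_one, hcl.sq])
  have h1 : m ≠ 1 := fun h => hcl.ne_one (by rw [h, map_one])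
  have hT : m ≠ mT := fun h => hne (by rw [← hm, h, S.phi_T])
  obtain ⟨k, hk | hk⟩ := inv_class m hmm h1 hT
  · exact Or.inl (by rw [← hk, map_mul, map_mul, map_inv]; exact hcl.conj _)
  · exact Or.inr (by rw [← hk, map_mul, map_mul, map_inv]; exact hcl.conj _)

/-- The conjugates of `t` in `E` generate it. -/
theorem E_le_of {M : Subgroup G} (h : ∀ u ∈ S.E, S.Cls u → u ∈ M) : S.E ≤ M := by
  have hT : S.phi mT ∈ M := by
    rw [S.phi_T]
    exact h _ t_mem_E cls_t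
  have key : ∀ a : Mdl, S.Cls (S.phi a) → ∀ j : ℕ, mR ^ j * a * (mR ^ j)⁻¹ ∈ mP →
      S.phi (mR ^ j * a * (mR ^ j)⁻¹) ∈ M := fun a ha j hj =>
    h _ (mem_E.2 hj) (by rw [map_mul, map_mul, map_inv]; exact ha.conj _)
  have hv : ∀ k, S.phi (vv k) ∈ M := by
    intro k
    obtain ⟨hk, -, -, -, -, hTk, -⟩ := vv_facts.2.2.2.2 k
    rcases S.cls_mV_or with hV | hV
    · exact key mV hV k hk
    · have e : mR ^ (k : ℕ) * (mT * mV) * (mR ^ (k : ℕ))⁻¹ = mT * vv k := by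
        rw [vv, ← mul_assoc (mR ^ (k : ℕ)) mT mV, ← mT_mul (mR ^ (k : ℕ))]
        simp only [mul_assoc]
      have := key _ hV k (e ▸ hTk)
      rw [e] at this
      have h2 := M.mul_mem hT this
      rwa [← map_mul, ← mul_assoc, mT_facts.2.1, one_mul] at h2
  rintro _ ⟨m, hm, rfl⟩
  rcases mP_cases m hm with rfl | rfl | ⟨k, rfl⟩ | ⟨k, rfl⟩
  · rw [map_one]; exact M.one_mem
  · exact hT
  · exact hv k
  · rw [map_mul]; exact M.mul_mem hT (hv k)

/-- The conjugates of `t` in the image of the model generate it. -/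
theorem range_le_of {M : Subgroup G} (h : ∀ u ∈ S.phi.range, S.Cls u → u ∈ M) :
    S.phi.range ≤ M := by
  have hinv : ∀ (a : Mdl), a * a = 1 → S.phi a ∈ M := by
    intro a ha
    have hconj : ∀ k : Mdl, ∀ e ∈ S.E, S.phi k * e * (S.phi k)⁻¹ ∈ M := by
      intro k
      refine fun e he => Subgroup.mem_comap.1 (S.E_le_of
        (M := M.comap (MulAut.conj (S.phi k)).toMonoidHom) (fun u hu hcl => ?_) he)
      obtain ⟨b, -, rfl⟩ := hu
      exact h _ ⟨k * b * k⁻¹, by rw [map_mul, map_mul, map_inv]; rfl⟩ (hcl.conj _)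
    by_cases h1 : a = 1
    · rw [h1, map_one]; exact M.one_mem
    by_cases hT : a = mT
    · rw [hT, S.phi_T]; exact h _ ⟨mT, S.phi_T⟩ cls_t
    obtain ⟨k, hk⟩ := inv_class a ha h1 hT
    have hP : k * a * k⁻¹ ∈ mP := by
      rcases hk with hk | hk <;> rw [hk]
      · exact mT_facts.2.2.2.1
      · exact mP.mul_mem mT_facts.2.2.1 mT_facts.2.2.2.1
    have := hconj k⁻¹ _ (mem_E.2 hP)
    rwa [← map_inv, ← map_mul, ← map_mul,
      show k⁻¹ * (k * a * k⁻¹) * k⁻¹⁻¹ = a by group] at this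
  rintro _ ⟨n, rfl⟩
  obtain ⟨a, ha, han⟩ := inv_prod n
  have := M.mul_mem (hinv a ha) (hinv (a * n) han)
  rwa [← map_mul, ← mul_assoc, ha, one_mul] at this

/-- The centraliser of `t` normalises the image of the model. -/
theorem conj_range {c : G} (hc : c * S.t = S.t * c) {x : G} (hx : x ∈ S.phi.range) :
    c * x * c⁻¹ ∈ S.phi.range := by
  refine Subgroup.mem_comap.1 (S.range_le_of
    (M := S.phi.range.comap (MulAut.conj c).toMonoidHom) (fun u hu hcl => ?_) hx)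
  obtain ⟨m, rfl⟩ := hu
  refine (hcl.conj c).mem_range ?_
  calc c * S.phi m * c⁻¹ * S.t = c * (S.phi m * S.t) * c⁻¹ := by
        rw [mul_assoc (c * S.phi m), show c⁻¹ * S.t = S.t * c⁻¹ by
          rw [inv_mul_eq_iff_eq_mul, ← mul_assoc, hc, mul_inv_cancel_right]]
        group
    _ = c * (S.t * S.phi m) * c⁻¹ := by rw [comm_t]
    _ = S.t * (c * S.phi m * c⁻¹) := by rw [← mul_assoc c, hc]; group

section Finite

variable [Finite G]

theorem exists_sylow (S : Setting G) :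
    ∃ P : Sylow 2 G, S.E ≤ P ∧ ∀ x ∈ P, x * S.t = S.t * x := by
  haveI : Fact (Nat.Prime 2) := ⟨Nat.prime_two⟩
  obtain ⟨P, hP⟩ := S.central
  let C := Subgroup.centralizer ({S.t} : Set G)
  have hEC : S.E ≤ C := fun x hx =>
    Subgroup.mem_centralizer_singleton_iff.2 (comm_E hx t_mem_E)
  have hPC : (P : Subgroup G) ≤ C := fun x hx =>
    Subgroup.mem_centralizer_singleton_iff.2 (hP x hx)
  obtain ⟨Q, hQ⟩ := (isPGroup_E (S := S)).comap_of_injective C.subtype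
    Subtype.val_injective |>.exists_le_sylow
  obtain ⟨c, hc⟩ := MulAction.exists_smul_eq C (P.subtype hPC) Q
  refine ⟨(c : G) • P, fun x hx => ?_, fun x hx => ?_⟩
  · have h1 : (⟨x, hEC hx⟩ : C) ∈ (Q : Subgroup C) := hQ hx
    rw [← hc, Sylow.smul_def, Sylow.pointwise_smul_def] at h1
    obtain ⟨y, hy, he⟩ := h1
    rw [Sylow.smul_def]
    exact ⟨(y : G), hy, congrArg Subtype.val he⟩
  · rw [Sylow.smul_def] at hx
    obtain ⟨y, hy, rfl⟩ := hx
    have h1 := Subgroup.mem_centralizer_singleton_iff.1 c.2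
    have h2 := hP y hy
    show (c : G) * y * (c : G)⁻¹ * S.t = S.t * ((c : G) * y * (c : G)⁻¹)
    calc (c : G) * y * (c : G)⁻¹ * S.t = (c : G) * y * ((c : G)⁻¹ * S.t) := by group
      _ = (c : G) * y * (S.t * (c : G)⁻¹) := by
        congr 1
        rw [inv_mul_eq_iff_eq_mul, ← mul_assoc, h1, mul_inv_cancel_right]
      _ = (c : G) * (y * S.t) * (c : G)⁻¹ := by group
      _ = (c : G) * (S.t * y) * (c : G)⁻¹ := by rw [h2]
      _ = S.t * ((c : G) * y * (c : G)⁻¹) := by rw [← mul_assoc (c : G), h1]; group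

variable (S) in
/-- A Sylow 2-subgroup containing `E` in the centraliser of `t`. -/
noncomputable def P₀ : Sylow 2 G := S.exists_sylow.choose

theorem E_le_P₀ : S.E ≤ S.P₀ := S.exists_sylow.choose_spec.1

theorem P₀_comm {x : G} (hx : x ∈ S.P₀) : x * S.t = S.t * x := S.exists_sylow.choose_spec.2 x hx

theorem cls_P₀ {u : G} (hu : u ∈ S.P₀) (h : S.Cls u) : u ∈ S.E := by
  obtain ⟨m, rfl⟩ := h.mem_range (P₀_comm hu)
  exact mem_E.2 (mem_range_iff_E S.P₀.isPGroup' E_le_P₀ hu)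

/-- An element carrying the conjugates of `t` in `E` into `E` normalises `E`. -/
theorem mem_N_of {n : G} (h : ∀ x ∈ S.E, S.Cls x → n * x * n⁻¹ ∈ S.E) : n ∈ S.N := by
  have hle : S.E.map (MulAut.conj n).toMonoidHom ≤ S.E :=
    Subgroup.map_le_iff_le_comap.2 (S.E_le_of fun u hu hcl => h u hu hcl)
  exact Subgroup.mem_normalizer_iff_map_conj_eq.2 (Subgroup.eq_of_le_of_card_ge hle
    (Subgroup.card_map_of_injective (MulAut.conj n).injective).ge)

omit [Finite G] in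
theorem mem_N_iff {n : G} (hn : n ∈ S.N) {x : G} : x ∈ S.E ↔ n * x * n⁻¹ ∈ S.E :=
  Subgroup.mem_normalizer_iff.1 hn x

/-- The Sylow 2-subgroups containing `E` are conjugate to `P₀` in the normaliser of `E`. -/
theorem exists_conj_sylow {P : Sylow 2 G} (hP : S.E ≤ P) : ∃ a ∈ S.N, a • S.P₀ = P := by
  haveI : Fact (Nat.Prime 2) := ⟨Nat.prime_two⟩
  obtain ⟨a, ha⟩ := MulAction.exists_smul_eq G S.P₀ P
  refine ⟨a, ?_, ha⟩
  refine inv_mem_iff.1 (S.mem_N_of fun x hx hcl => cls_P₀ ?_ (hcl.conj _))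
  have h1 : x ∈ ((a • S.P₀ : Sylow 2 G) : Subgroup G) := ha ▸ hP hx
  rw [Sylow.smul_def, Sylow.pointwise_smul_def] at h1
  obtain ⟨y, hy, rfl⟩ := h1
  show a⁻¹ * (a * y * a⁻¹) * a⁻¹⁻¹ ∈ S.P₀
  rwa [show a⁻¹ * (a * y * a⁻¹) * a⁻¹⁻¹ = y by group]

/-- In a 2-group containing `E` the conjugates of `t` lie in `E`. -/
theorem cls_mem_E {Q : Subgroup G} (hQ : IsPGroup 2 Q) (hE : S.E ≤ Q) {u : G} (hu : u ∈ Q)
    (h : S.Cls u) : u ∈ S.E := by
  obtain ⟨P, hP⟩ := hQ.exists_le_sylow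
  obtain ⟨a, ha, rfl⟩ := S.exists_conj_sylow (hE.trans hP)
  have h1 : u ∈ ((a • S.P₀ : Sylow 2 G) : Subgroup G) := hP hu
  rw [Sylow.smul_def, Sylow.pointwise_smul_def] at h1
  obtain ⟨y, hy, rfl⟩ := h1
  exact (mem_N_iff ha).1 (cls_P₀ hy (Cls.of_conj (S := S) (g := a) h))

/-- The normaliser of `E` controls the fusion of `t` in `E`. -/
theorem fusion {u : G} (hu : u ∈ S.E) (h : S.Cls u) : ∃ n ∈ S.N, n * S.t * n⁻¹ = u := by
  haveI : Fact (Nat.Prime 2) := ⟨Nat.prime_two⟩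
  obtain ⟨g, rfl⟩ := cls_iff.1 h
  let C := Subgroup.centralizer ({g * S.t * g⁻¹} : Set G)
  have hEC : S.E ≤ C := fun x hx => Subgroup.mem_centralizer_singleton_iff.2 (comm_E hx hu)
  have hgC : S.E.map (MulAut.conj g).toMonoidHom ≤ C := by
    rintro _ ⟨x, hx, rfl⟩
    refine Subgroup.mem_centralizer_singleton_iff.2 ?_
    show g * x * g⁻¹ * (g * S.t * g⁻¹) = g * S.t * g⁻¹ * (g * x * g⁻¹)
    rw [conj_mul, conj_mul, comm_E hx t_mem_E]
  obtain ⟨Q₁, h₁⟩ := ((isPGroup_E (S := S)).comap_of_injective C.subtype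
    Subtype.val_injective).exists_le_sylow
  obtain ⟨Q₂, h₂⟩ := (((isPGroup_E (S := S)).map (MulAut.conj g).toMonoidHom).comap_of_injective
    C.subtype Subtype.val_injective).exists_le_sylow
  obtain ⟨c, hc⟩ := MulAction.exists_smul_eq C Q₂ Q₁
  have hn : (c : G) * g ∈ S.N := by
    refine S.mem_N_of fun x hx hcl => S.cls_mem_E (Q := (Q₁ : Subgroup C).map C.subtype)
      (Q₁.isPGroup'.map _) (fun y hy => ⟨⟨y, hEC hy⟩, h₁ hy, rfl⟩) ?_ (hcl.conj _)
    have hx' : (⟨g * x * g⁻¹, hgC ⟨x, hx, rfl⟩⟩ : C) ∈ (Q₂ : Subgroup C) := h₂ ⟨x, hx, rfl⟩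
    refine ⟨c * ⟨g * x * g⁻¹, hgC ⟨x, hx, rfl⟩⟩ * c⁻¹, ?_, ?_⟩
    · rw [← hc, Sylow.smul_def, Sylow.pointwise_smul_def]
      exact ⟨_, hx', rfl⟩
    · show (c : G) * (g * x * g⁻¹) * (c : G)⁻¹ = (c : G) * g * x * ((c : G) * g)⁻¹
      group
  refine ⟨_, hn, ?_⟩
  calc (c : G) * g * S.t * ((c : G) * g)⁻¹ = (c : G) * (g * S.t * g⁻¹) * (c : G)⁻¹ := by group
    _ = g * S.t * g⁻¹ := by rw [Subgroup.mem_centralizer_singleton_iff.1 c.2, mul_inv_cancel_right]

theorem P₀_le_N : (S.P₀ : Subgroup G) ≤ S.N := by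
  intro x hx
  refine S.mem_N_of fun e he _ => ?_
  obtain ⟨m, hm⟩ := S.conj_range (P₀_comm hx) (E_le_range he)
  have : S.phi m ∈ S.P₀ := hm ▸ mul_mem (mul_mem hx (E_le_P₀ he)) (inv_mem hx)
  exact hm ▸ mem_E.2 (mem_range_iff_E S.P₀.isPGroup' E_le_P₀ this)

/-- All involutions of `E` are conjugates of `t`. -/
theorem cls_of_mem_E {m : Mdl} (hm : m ∈ mP) (hm1 : m ≠ 1) : S.Cls (S.phi m) := by
  classical
  haveI : Fact (Nat.Prime 2) := ⟨Nat.prime_two⟩
  have hR : ∀ (j : ℕ) (a : Mdl),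
      S.Cls (S.phi (mR ^ j * a * (mR ^ j)⁻¹)) ↔ S.Cls (S.phi a) := fun j a => by
    rw [map_mul, map_mul, map_inv]
    exact ⟨fun h => h.of_conj, fun h => h.conj _⟩
  have hvv : ∀ k, S.Cls (S.phi (vv k)) ↔ S.Cls (S.phi mV) := fun k => hR _ _
  have hTvv : ∀ k, S.Cls (S.phi (mT * vv k)) ↔ S.Cls (S.phi (mT * mV)) := fun k => by
    rw [← hR (k : ℕ) (mT * mV), ← mul_assoc (mR ^ (k : ℕ)) mT mV, ← mT_mul (mR ^ (k : ℕ)), vv]
    simp only [mul_assoc]
  have hTcl : S.Cls (S.phi mT) := S.phi_T.symm ▸ cls_t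
  -- the orbit has odd size
  have hodd : Odd (Fintype.card {a : Mdl // a ∈ mP ∧ a ≠ 1 ∧ S.Cls (S.phi a)}) := by
    let C := Subgroup.centralizer ({S.t} : Set G)
    have hPC : (S.P₀ : Subgroup G) ≤ C := fun x hx =>
      Subgroup.mem_centralizer_singleton_iff.2 (P₀_comm hx)
    have h1 : (S.P₀ : Subgroup G).relIndex S.N =
        (S.P₀ : Subgroup G).relIndex (C ⊓ S.N) * (C ⊓ S.N).relIndex S.N :=
      (Subgroup.relIndex_mul_relIndex _ _ _ (le_inf hPC P₀_le_N) inf_le_right).symm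
    have hidx : ¬ 2 ∣ (C ⊓ S.N).relIndex S.N := fun h => Sylow.not_dvd_index S.P₀
      ((h.trans (Dvd.intro_left _ h1.symm)).trans
        (Subgroup.relIndex_dvd_index_of_le P₀_le_N))
    rw [Subgroup.inf_relIndex_right] at hidx
    have hfus : ∀ a : {a : Mdl // a ∈ mP ∧ a ≠ 1 ∧ S.Cls (S.phi a)},
        ∃ n : S.N, (n : G) * S.t * (n : G)⁻¹ = S.phi a := fun a => by
      obtain ⟨n, hn, he⟩ := S.fusion (mem_E.2 a.2.1) a.2.2.2
      exact ⟨⟨n, hn⟩, he⟩
    choose f hf using hfus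
    have e : {a : Mdl // a ∈ mP ∧ a ≠ 1 ∧ S.Cls (S.phi a)} ≃ S.N ⧸ C.subgroupOf S.N := by
      refine Equiv.ofBijective (fun a => QuotientGroup.mk (f a)) ⟨?_, ?_⟩
      · intro a b hab
        have h := QuotientGroup.eq.1 hab
        rw [Subgroup.mem_subgroupOf, Subgroup.coe_mul, Subgroup.coe_inv,
          Subgroup.mem_centralizer_singleton_iff] at h
        refine Subtype.ext (S.inj ?_)
        rw [← hf a, ← hf b]
        calc (f a : G) * S.t * (f a : G)⁻¹
            = (f a : G) * (S.t * ((f a : G)⁻¹ * f b)) * (f b : G)⁻¹ := by group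
          _ = (f a : G) * (((f a : G)⁻¹ * f b) * S.t) * (f b : G)⁻¹ := by rw [h]
          _ = (f b : G) * S.t * (f b : G)⁻¹ := by group
      · intro q
        obtain ⟨⟨n, hn⟩, rfl⟩ := QuotientGroup.mk_surjective q
        obtain ⟨a, ha, he⟩ := (mem_N_iff hn).1 t_mem_E
        have hcl : S.Cls (S.phi a) := cls_iff.2 ⟨n, he.symm⟩
        let A : {a : Mdl // a ∈ mP ∧ a ≠ 1 ∧ S.Cls (S.phi a)} :=
          ⟨a, ha, fun h => hcl.ne_one (by rw [h, map_one]), hcl⟩
        refine ⟨A, QuotientGroup.eq.2 ?_⟩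
        rw [Subgroup.mem_subgroupOf, Subgroup.coe_mul, Subgroup.coe_inv,
          Subgroup.mem_centralizer_singleton_iff]
        calc (f A : G)⁻¹ * n * S.t = (f A : G)⁻¹ * (n * S.t * n⁻¹) * n := by group
          _ = (f A : G)⁻¹ * ((f A : G) * S.t * (f A : G)⁻¹) * n := by rw [hf A, ← he]
          _ = S.t * ((f A : G)⁻¹ * n) := by group
    rw [← Nat.card_eq_fintype_card, Nat.card_congr e]
    exact Nat.not_even_iff_odd.1 fun h => hidx (even_iff_two_dvd.1 h)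
  by_cases hV : S.Cls (S.phi mV) <;> by_cases hTV : S.Cls (S.phi (mT * mV))
  · rcases mP_cases m hm with rfl | rfl | ⟨k, rfl⟩ | ⟨k, rfl⟩
    · exact absurd rfl hm1
    · exact hTcl
    · exact (hvv k).2 hV
    · exact (hTvv k).2 hTV
  · exfalso
    have heq : ∀ a : Mdl, (a ∈ mP ∧ a ≠ 1 ∧ S.Cls (S.phi a)) ↔
        (a = mT ∨ a ∈ mP ∧ a ≠ 1 ∧ ∃ k, a = vv k) := by
      intro a
      constructor
      · rintro ⟨ha, ha1, hcl⟩
        rcases mP_cases a ha with rfl | rfl | h | ⟨k, rfl⟩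
        · exact absurd rfl ha1
        · exact Or.inl rfl
        · exact Or.inr ⟨ha, ha1, h⟩
        · exact absurd ((hTvv k).1 hcl) hTV
      · rintro (rfl | ⟨ha, ha1, k, rfl⟩)
        · exact ⟨mT_facts.2.2.1, mT_facts.1, hTcl⟩
        · exact ⟨ha, ha1, (hvv k).2 hV⟩
    rw [Fintype.card_congr (Equiv.subtypeEquivRight heq), card_orbit_V] at hodd
    exact absurd hodd (by decide)
  · exfalso
    have heq : ∀ a : Mdl, (a ∈ mP ∧ a ≠ 1 ∧ S.Cls (S.phi a)) ↔
        (a = mT ∨ a ∈ mP ∧ a ≠ 1 ∧ ∃ k, a = mT * vv k) := by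
      intro a
      constructor
      · rintro ⟨ha, ha1, hcl⟩
        rcases mP_cases a ha with rfl | rfl | ⟨k, rfl⟩ | h
        · exact absurd rfl ha1
        · exact Or.inl rfl
        · exact absurd ((hvv k).1 hcl) hV
        · exact Or.inr ⟨ha, ha1, h⟩
      · rintro (rfl | ⟨ha, ha1, k, rfl⟩)
        · exact ⟨mT_facts.2.2.1, mT_facts.1, hTcl⟩
        · exact ⟨ha, ha1, (hTvv k).2 hTV⟩
    rw [Fintype.card_congr (Equiv.subtypeEquivRight heq), card_orbit_TV] at hodd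
    exact absurd hodd (by decide)
  · exact absurd S.cls_mV_or (not_or.2 ⟨hV, hTV⟩)

/-- All involutions of the image of the model are conjugates of `t`. -/
theorem cls_of_involution {m : Mdl} (hm : m * m = 1) (hm1 : m ≠ 1) : S.Cls (S.phi m) := by
  by_cases hT : m = mT
  · exact hT ▸ S.phi_T.symm ▸ cls_t
  obtain ⟨k, hk⟩ := inv_class m hm hm1 hT
  refine Cls.of_conj (g := S.phi k) ?_
  rw [← map_inv, ← map_mul, ← map_mul]
  refine S.cls_of_mem_E ?_ fun h => hm1 (conj_eq_one_iff.1 h)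
  rcases hk with hk | hk <;> rw [hk]
  · exact mT_facts.2.2.2.1
  · exact mP.mul_mem mT_facts.2.2.1 mT_facts.2.2.2.1

/-- The product of two commuting conjugates of `t` is a conjugate of `t`. -/
theorem Cls.mul {u w : G} (hu : S.Cls u) (hw : S.Cls w) (hc : u * w = w * u) (hne : u ≠ w) :
    S.Cls (u * w) := by
  obtain ⟨g, rfl⟩ := cls_iff.1 hw
  have hu' : S.Cls (g⁻¹ * u * g) := by simpa using hu.conj g⁻¹
  obtain ⟨m, hm⟩ := hu'.mem_range (by
    calc g⁻¹ * u * g * S.t = g⁻¹ * (u * (g * S.t * g⁻¹)) * g := by group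
      _ = g⁻¹ * (g * S.t * g⁻¹ * u) * g := by rw [hc]
      _ = S.t * (g⁻¹ * u * g) := by group)
  have hmm : m * m = 1 := S.inj (by rw [map_mul, map_one, hm, hu'.sq])
  have h1 : m * mT ≠ 1 := by
    intro h
    rw [mul_eq_one_iff_eq_inv, inv_eq_of_mul_eq_one_right mT_facts.2.1] at h
    rw [h, S.phi_T] at hm
    exact hne (by rw [hm]; group)
  have h2 : m * mT * (m * mT) = 1 := by
    rw [mul_assoc, ← mul_assoc mT, mT_mul, mul_assoc m, mT_facts.2.1, mul_one, hmm]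
  have h3 := (S.cls_of_involution h2 h1).conj g
  rw [map_mul, hm, S.phi_T] at h3
  rwa [show g * (g⁻¹ * u * g * S.t) * g⁻¹ = u * (g * S.t * g⁻¹) by group] at h3

end Finite

end Setting

end CfsgLib.J1Closure
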