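import Mathlib.GroupTheory.Commutator.Basic
import Cfsg.Agent.J1Closure.Setting

/-!
# The centraliser of the involution is the image of the model times a complement

The complement `F` is the centraliser in `C(E)` of the subgroup generated by the conjugates
under `N(E)` of an element of order three.
-/

set_option autoImplicit false
set_option linter.style.haveILetI false

open scoped commutatorElement

namespace CfsgLib.J1Closure

open CfsgLib.J1Order (Mdl mT mV mR mU mP mT_mul mT_facts sq_mP center_mdl mR_norm)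

universe u

namespace Setting

variable {G : Type u} [Group G] {S : Setting G}

variable (S) in
/-- The centraliser of `E`. -/
def CE : Subgroup G := Subgroup.centralizer (S.E : Set G)

variable (S) in
/-- The subgroup generated by the conjugates of the element of order three. -/
def L : Subgroup G := Subgroup.closure {x | ∃ n ∈ S.N, x = n * S.phi mR * n⁻¹}

variable (S) in
/-- The complement. -/
def F : Subgroup G := S.CE ⊓ Subgroup.centralizer (S.L : Set G)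

theorem exists_conjHom {c : G} (hc : c * S.t = S.t * c) :
    ∃ f : Mdl →* Mdl, Function.Injective f ∧ f mT = mT ∧
      ∀ m, S.phi (f m) = c * S.phi m * c⁻¹ := by
  choose f hf using fun m => S.conj_range hc ⟨m, rfl⟩
  refine ⟨MonoidHom.mk' f fun a b => S.inj ?_, fun a b h => ?_, S.inj ?_, hf⟩
  · rw [map_mul, hf, hf, hf, map_mul]
    group
  · have := congrArg S.phi h
    change S.phi (f a) = S.phi (f b) at this
    rw [hf, hf] at this
    exact S.inj (mul_left_cancel (mul_right_cancel this))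
  · rw [MonoidHom.mk'_apply, hf, S.phi_T, hc, mul_inv_cancel_right]

theorem K_comm {k : G} (hk : k ∈ S.K) (m : Mdl) : S.phi m * k = k * S.phi m :=
  Subgroup.mem_centralizer_iff.1 hk _ ⟨m, rfl⟩

theorem mem_K {k : G} (h : ∀ m, S.phi m * k = k * S.phi m) : k ∈ S.K :=
  Subgroup.mem_centralizer_iff.2 fun _ ⟨m, hm⟩ => hm ▸ h m

theorem K_le_CE : S.K ≤ S.CE := Subgroup.centralizer_le E_le_range

theorem K_comm_t {k : G} (hk : k ∈ S.K) : k * S.t = S.t * k := by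
  rw [← S.phi_T]; exact (K_comm hk mT).symm

theorem eq_of_mem_K {m : Mdl} (h : S.phi m ∈ S.K) : m = 1 ∨ m = mT :=
  center_mdl m fun n => S.inj (by rw [map_mul, map_mul, K_comm h n])

theorem CE_comm {y e : G} (hy : y ∈ S.CE) (he : e ∈ S.E) : e * y = y * e :=
  Subgroup.mem_centralizer_iff.1 hy e he

variable [Finite G]

theorem phi_mem_N {w : Mdl} (hw : ∀ m ∈ mP, w * m * w⁻¹ ∈ mP) : S.phi w ∈ S.N := by
  refine S.mem_N_of ?_
  rintro _ ⟨m, hm, rfl⟩ -
  rw [← map_inv, ← map_mul, ← map_mul]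
  exact mem_E.2 (hw m hm)

theorem R_mem_N : S.phi mR ∈ S.N := phi_mem_N fun m hm => (mR_norm m).1 hm

theorem exists_fusion : ∃ n ∈ S.N, n * S.t * n⁻¹ = S.phi (vv 0) := by
  obtain ⟨h, h1, -⟩ := vv_facts.2.2.2.2 0
  exact S.fusion (mem_E.2 h) (S.cls_of_mem_E h h1)

/-- No element of the centraliser of `t` induces a transposition on the second factor. -/
theorem no_swap {c : G} (hc : c * S.t = S.t * c) (hcN : c ∈ S.N)
    (h0 : c * S.phi (vv 0) * c⁻¹ = S.phi (vv 0))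
    (h1 : c * S.phi (vv 1) * c⁻¹ = S.phi (vv 2)) : False := by
  have h2 : c * S.phi (vv 2) * c⁻¹ = S.phi (vv 1) := by
    rw [← vv_facts.2.1, map_mul, ← conj_mul, h0, h1, ← map_mul, vv_zero_two.1]
  have hk : ∀ k, c * S.phi (vv k) * c⁻¹ = S.phi (vv (sig k)) := by
    intro k
    fin_cases k
    exacts [h0, h1, h2]
  have key : ∀ e ∈ S.E, e * (c * e * c⁻¹) = 1 ∨ e * (c * e * c⁻¹) = S.phi (vv 0) := by
    rintro _ ⟨m, hm, rfl⟩
    have hT : c * S.phi mT * c⁻¹ = S.phi mT := by rw [S.phi_T, hc, mul_inv_cancel_right]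
    rcases mP_cases m hm with rfl | rfl | ⟨k, rfl⟩ | ⟨k, rfl⟩
    · exact Or.inl (by rw [map_one]; group)
    · exact Or.inl (by rw [hT, ← map_mul, mT_facts.2.1, map_one])
    · rw [hk, ← map_mul]
      rcases (sig_facts k).1 with h | h <;> rw [h]
      · exact Or.inl (map_one _)
      · exact Or.inr rfl
    · rw [map_mul, ← conj_mul, hT, hk, ← map_mul, ← map_mul, ← map_mul]
      rcases (sig_facts k).2 with h | h <;> rw [h]
      · exact Or.inl (map_one _)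
      · exact Or.inr rfl
  obtain ⟨n, hn, hnt⟩ := S.exists_fusion
  set q := n⁻¹ * c * n with hq
  have hqN : q ∈ S.N := mul_mem (mul_mem (inv_mem hn) hcN) hn
  have hqt : q * S.t = S.t * q := by
    calc q * S.t = n⁻¹ * c * (n * S.t * n⁻¹) * n := by rw [hq]; group
      _ = n⁻¹ * (c * S.phi (vv 0) * c⁻¹) * c * n := by rw [hnt]; group
      _ = n⁻¹ * (n * S.t * n⁻¹) * c * n := by rw [h0, hnt]
      _ = S.t * q := by rw [hq]; group
  obtain ⟨f, -, -, hf⟩ := S.exists_conjHom hqt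
  have hv : ∀ k, q * S.phi (vv k) * q⁻¹ = S.phi (vv k) := by
    intro k
    obtain ⟨hkP, -, -, hk1, -⟩ := vv_facts.2.2.2.2 k
    have hmem : n * S.phi (vv k) * n⁻¹ ∈ S.E := (mem_N_iff hn).1 (mem_E.2 hkP)
    have e : n * S.phi (vv k) * n⁻¹ * (c * (n * S.phi (vv k) * n⁻¹) * c⁻¹) =
        n * (S.phi (vv k) * S.phi (f (vv k))) * n⁻¹ := by
      rw [hf, hq]; group
    rcases key _ hmem with h | h <;> rw [e] at h
    · rw [← map_mul, conj_eq_one_iff, map_eq_one_iff _ S.inj] at h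
      rw [← hf, eq_comm]
      congr 1
      have hvv : vv k * vv k = 1 := sq_mP _ hkP
      exact mul_left_cancel (a := vv k) (hvv.trans h.symm)
    · exfalso
      rw [← hnt, ← map_mul] at h
      have h' : vv k * f (vv k) = mT :=
        S.inj ((mul_left_cancel (mul_right_cancel h)).trans S.phi_T.symm)
      have h'' := congrArg Prod.fst h'
      rw [Prod.fst_mul, hk1, fst_one f hk1, mul_one] at h''
      exact absurd h'' (by decide)
  have hE : ∀ e ∈ S.E, q * e * q⁻¹ = e := by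
    rintro _ ⟨m, hm, rfl⟩
    have hT : q * S.phi mT * q⁻¹ = S.phi mT := by rw [S.phi_T, hqt, mul_inv_cancel_right]
    rcases mP_cases m hm with rfl | rfl | ⟨k, rfl⟩ | ⟨k, rfl⟩
    · rw [map_one]; group
    · exact hT
    · exact hv k
    · rw [map_mul, ← conj_mul, hT, hv]
  obtain ⟨x, hx, hxe⟩ : ∃ x ∈ S.E, n * x * n⁻¹ = S.phi (vv 1) :=
    ⟨n⁻¹ * S.phi (vv 1) * n, by
      have := (mem_N_iff (inv_mem hn)).1 (mem_E.2 (vv_facts.2.2.2.2 1).1)
      rwa [inv_inv] at this, by group⟩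
  have h := hE x hx
  refine absurd (vv_injective 2 1 (S.inj ?_)) (by decide)
  rw [← h1, ← hxe]
  calc c * (n * x * n⁻¹) * c⁻¹ = n * (q * x * q⁻¹) * n⁻¹ := by rw [hq]; group
    _ = n * x * n⁻¹ := by rw [h]

/-- The centraliser of `t` is the product of the image of the model and its centraliser. -/
theorem exists_decomp {c : G} (hc : c * S.t = S.t * c) : ∃ w : Mdl, S.phi w * c ∈ S.K := by
  have hct : ∀ {d : G} (w : Mdl), d * S.t = S.t * d →
      S.phi w * d * S.t = S.t * (S.phi w * d) := fun w hd => by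
    rw [mul_assoc, hd, ← mul_assoc, comm_t, mul_assoc]
  -- normalise `E`
  obtain ⟨f, hfinj, -, hf⟩ := S.exists_conjHom hc
  obtain ⟨w₁, hw₁⟩ := exists_conj_mP (Q := mP.map f)
    ((Subgroup.card_map_of_injective hfinj).trans card_mP')
  have hc₁ := hct w₁ hc
  have hN₁ : S.phi w₁ * c ∈ S.N := by
    refine S.mem_N_of ?_
    rintro _ ⟨m, hm, rfl⟩ -
    rw [show S.phi w₁ * c * S.phi m * (S.phi w₁ * c)⁻¹ =
      S.phi w₁ * (c * S.phi m * c⁻¹) * (S.phi w₁)⁻¹ by group, ← hf, ← map_inv, ← map_mul,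
      ← map_mul]
    exact mem_E.2 (hw₁ _ ⟨m, hm, rfl⟩)
  generalize hc₁' : S.phi w₁ * c = c₁ at hc₁ hN₁
  obtain ⟨f₁, -, hf₁T, hf₁⟩ := S.exists_conjHom hc₁
  have hf₁P : ∀ k, ∃ i, f₁ (vv k) = vv i := by
    intro k
    obtain ⟨hk, hk1, -, hkf, -⟩ := vv_facts.2.2.2.2 k
    refine mem_vv _ (mem_E (S := S).1 ?_) (fun h => hk1 ?_) (fst_one f₁ hkf)
    · rw [hf₁]; exact (mem_N_iff hN₁).1 (mem_E.2 hk)
    · have := congrArg S.phi h
      rw [hf₁, map_one, conj_eq_one_iff] at this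
      exact (map_eq_one_iff _ S.inj).1 this
  obtain ⟨i, hi⟩ := hf₁P 0
  -- fix the three involutions
  set w₂ := mR ^ ((-i : Fin 3) : ℕ) with hw₂
  have hc₂ := hct w₂ hc₁
  have hN₂ : S.phi w₂ * c₁ ∈ S.N := mul_mem (by rw [hw₂, map_pow]; exact pow_mem R_mem_N _) hN₁
  generalize hc₂' : S.phi w₂ * c₁ = c₂ at hc₂ hN₂
  have hcomp : ∀ m, c₂ * S.phi m * c₂⁻¹ = S.phi (w₂ * f₁ m * w₂⁻¹) := by
    intro m
    rw [map_mul, map_mul, map_inv, hf₁, ← hc₂']
    group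
  have h0 : c₂ * S.phi (vv 0) * c₂⁻¹ = S.phi (vv 0) := by rw [hcomp, hi, hw₂, vv_shift]
  obtain ⟨f₂, hf₂inj, hf₂T, hf₂⟩ := S.exists_conjHom hc₂
  have hf₂0 : f₂ (vv 0) = vv 0 := S.inj (by rw [hf₂, h0])
  have hf₂1 : f₂ (vv 1) = vv 1 := by
    obtain ⟨hk, hk1, -, hkf, -⟩ := vv_facts.2.2.2.2 1
    obtain ⟨j, hj⟩ := mem_vv (f₂ (vv 1)) (mem_E (S := S).1 (by
      rw [hf₂]; exact (mem_N_iff hN₂).1 (mem_E.2 hk)))
      (fun h => hk1 ((map_eq_one_iff _ hf₂inj).1 h)) (fst_one f₂ hkf)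
    rcases (by decide : ∀ j : Fin 3, j = 0 ∨ j = 1 ∨ j = 2) j with rfl | rfl | rfl
    · exact absurd (vv_injective 1 0 (hf₂inj (hj.trans hf₂0.symm))) (by decide)
    · exact hj
    · exact (S.no_swap hc₂ hN₂ h0 (by rw [← hf₂, hj])).elim
  have hf₂2 : f₂ (vv 2) = vv 2 := by rw [← vv_facts.2.1, map_mul, hf₂0, hf₂1]
  obtain ⟨x, hx, hxR⟩ := R_candidates (f₂ mR) (fst_one f₂ vv_zero_two.2.2.1)
    (by
      have h := congrArg f₂ (vv_facts.2.2.2.2 0).2.2.2.2.2.2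
      rw [map_mul, map_mul, map_inv, hf₂0] at h
      exact h.trans hf₂1)
    (by
      have h := congrArg f₂ (vv_facts.2.2.2.2 1).2.2.2.2.2.2
      rw [map_mul, map_mul, map_inv, hf₂1] at h
      exact h.trans hf₂2)
  -- the adjusted element centralises the whole image
  refine ⟨x * (w₂ * w₁), ?_⟩
  rw [map_mul, map_mul, mul_assoc, mul_assoc, hc₁', hc₂']
  have hc₃ := hct x hc₂
  obtain ⟨f₃, -, hf₃T, hf₃⟩ := S.exists_conjHom hc₃
  have hcomp₃ : ∀ m, f₃ m = x * f₂ m * x⁻¹ := fun m => S.inj (by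
    rw [hf₃, map_mul, map_mul, map_inv, hf₂]; group)
  have hv : ∀ k, k ∈ mP → x * k * x⁻¹ = k := fun k hk => by
    have h := S.comm_E (mem_E.2 hx) (mem_E.2 hk)
    rw [← map_mul, ← map_mul] at h
    rw [S.inj h, mul_inv_cancel_right]
  have hR : f₃ mR = mR := by rw [hcomp₃, hxR]
  have h0' : f₃ (vv 0) = vv 0 := by rw [hcomp₃, hf₂0, hv _ (vv_facts.2.2.2.2 0).1]
  have h1' : f₃ (vv 1) = vv 1 := by rw [hcomp₃, hf₂1, hv _ (vv_facts.2.2.2.2 1).1]
  have hV : f₃ mV = mV := vv_facts.1 ▸ h0'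
  have hU : f₃ mU = mU := by
    refine U_candidates _ (fst_one f₃ vv_zero_two.2.1)
      (by rw [← map_mul, vv_zero_two.2.2.2, map_one]) ?_ ?_ ?_
    · rw [← hR, ← map_mul, ← map_pow, U_orders.1, map_one]
    · rw [← hV, ← map_mul, ← map_pow, U_orders.2.1, map_one]
    · rw [← hR, ← hV, ← map_mul, ← map_mul, ← map_pow, U_orders.2.2, map_one]
  have htop : f₃.eqLocus (MonoidHom.id Mdl) = ⊤ :=
    eq_top_of_generators hf₃T hR h0' h1' hU
  refine mem_K fun m => ?_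
  have hm : f₃ m = m := htop.ge (Subgroup.mem_top m)
  have := hf₃ m
  rw [hm, eq_mul_inv_iff_mul_eq] at this
  exact this

/-- The centraliser of `E` in terms of the model and `K`. -/
theorem exists_CE {c : G} (hc : c ∈ S.CE) : ∃ m ∈ mP, ∃ k ∈ S.K, c = S.phi m * k := by
  obtain ⟨w, hw⟩ := S.exists_decomp (CE_comm hc t_mem_E).symm
  refine ⟨w⁻¹, inv_mem ?_, _, hw, by rw [map_inv, inv_mul_cancel_left]⟩
  have h : ∀ k, w * vv k = vv k * w := by
    intro k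
    have hk := mem_E (S := S).2 (vv_facts.2.2.2.2 k).1
    refine S.inj ?_
    rw [map_mul, map_mul]
    refine mul_right_cancel (b := c) ?_
    rw [mul_assoc, CE_comm hc hk, ← mul_assoc, mul_assoc (S.phi (vv k))]
    exact (K_comm hw (vv k)).symm
  exact cent_mP w (h 0) (h 1)

/-- The Sylow 2-subgroup centralises `E`. -/
theorem P₀_le_CE : (S.P₀ : Subgroup G) ≤ S.CE := by
  intro x hx
  obtain ⟨w, hw⟩ := S.exists_decomp (P₀_comm hx)
  obtain ⟨j, hj⟩ := S.P₀.isPGroup' ⟨x, hx⟩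
  have hj' : x ^ 2 ^ j = 1 := congrArg Subtype.val hj
  generalize hk : S.phi w * x = k at hw
  obtain rfl : x = S.phi w⁻¹ * k := by rw [← hk, map_inv, inv_mul_cancel_left]
  have hK : S.phi (w⁻¹ ^ 2 ^ j) ∈ S.K := by
    rw [(show Commute (S.phi w⁻¹) k from K_comm hw w⁻¹).mul_pow,
      mul_eq_one_iff_eq_inv] at hj'
    rw [map_pow, hj']
    exact inv_mem (pow_mem hw _)
  have h2 : w⁻¹ ^ 2 ^ (j + 1) = 1 := by
    rw [pow_succ, pow_mul, pow_two]
    rcases eq_of_mem_K hK with h | h <;> rw [h]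
    · exact one_mul 1
    · exact mT_facts.2.1
  have hsq : w⁻¹ * w⁻¹ = 1 := by
    obtain ⟨i, -, hi⟩ := (Nat.dvd_prime_pow Nat.prime_two).1 (orderOf_dvd_of_pow_eq_one h2)
    have h30 := orderOf_dvd_of_pow_eq_one (pow_thirty w⁻¹)
    rw [hi] at h30
    have hi1 : i ≤ 1 := by
      by_contra hc
      exact absurd ((pow_dvd_pow 2 (show 2 ≤ i by omega)).trans h30) (by norm_num)
    rw [← pow_two, ← orderOf_dvd_iff_pow_eq_one, hi]
    calc 2 ^ i ∣ 2 ^ 1 := pow_dvd_pow 2 hi1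
      _ = 2 := pow_one 2
  have hmem : ∀ k', w⁻¹ * vv k' * w⁻¹⁻¹ ∈ mP := fun k' => by
    refine mem_E (S := S).1 ?_
    have := (mem_N_iff (P₀_le_N hx)).1 (mem_E (S := S).2 (vv_facts.2.2.2.2 k').1)
    rwa [show S.phi w⁻¹ * k * S.phi (vv k') * (S.phi w⁻¹ * k)⁻¹ =
      S.phi w⁻¹ * (k * S.phi (vv k') * k⁻¹) * (S.phi w⁻¹)⁻¹ by group, ← K_comm hw (vv k'),
      mul_inv_cancel_right, ← map_inv, ← map_mul, ← map_mul] at this
  refine mul_mem ?_ (K_le_CE hw)
  exact Subgroup.mem_centralizer_iff.2 fun e he =>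
    comm_E he (mem_E.2 (inv_normalizing _ hsq (hmem 0) (hmem 1)))

/-- The 2-elements of the normaliser of `E` centralise `E`. -/
theorem mem_CE_of_pow {n : G} (hn : n ∈ S.N) {j : ℕ} (hj : n ^ 2 ^ j = 1) : n ∈ S.CE := by
  haveI : Fact (Nat.Prime 2) := ⟨Nat.prime_two⟩
  obtain ⟨i, -, hi⟩ := (Nat.dvd_prime_pow Nat.prime_two).1 (orderOf_dvd_of_pow_eq_one hj)
  obtain ⟨P, hP⟩ := (IsPGroup.to_sup_of_normal_right'
    (IsPGroup.of_card (n := i) (show Nat.card (Subgroup.zpowers n) = 2 ^ i by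
      rw [Nat.card_zpowers, hi])) isPGroup_E
    (Subgroup.zpowers_le.2 hn : Subgroup.zpowers n ≤ S.N)).exists_le_sylow
  obtain ⟨a, ha, rfl⟩ := S.exists_conj_sylow (le_sup_right.trans hP)
  have h1 : n ∈ ((a • S.P₀ : Sylow 2 G) : Subgroup G) :=
    hP (Subgroup.mem_sup_left (Subgroup.mem_zpowers n))
  rw [Sylow.smul_def, Sylow.pointwise_smul_def] at h1
  obtain ⟨y, hy, rfl⟩ := h1
  refine Subgroup.mem_centralizer_iff.2 fun e he => ?_
  have he' := (mem_N_iff (inv_mem ha)).1 he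
  rw [inv_inv] at he'
  show e * (a * y * a⁻¹) = a * y * a⁻¹ * e
  calc e * (a * y * a⁻¹) = a * (a⁻¹ * e * a * y) * a⁻¹ := by group
    _ = a * (y * (a⁻¹ * e * a)) * a⁻¹ := by rw [CE_comm (P₀_le_CE hy) he']
    _ = a * y * a⁻¹ * e := by group

omit [Finite G] in
theorem CE_conj {n : G} (hn : n ∈ S.N) {y : G} (hy : y ∈ S.CE) : n * y * n⁻¹ ∈ S.CE := by
  refine Subgroup.mem_centralizer_iff.2 fun e he => ?_
  have he' := (mem_N_iff (inv_mem hn)).1 he
  rw [inv_inv] at he'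
  calc e * (n * y * n⁻¹) = n * (n⁻¹ * e * n * y) * n⁻¹ := by group
    _ = n * (y * (n⁻¹ * e * n)) * n⁻¹ := by rw [CE_comm hy he']
    _ = n * y * n⁻¹ * e := by group

theorem commutator_CE_le : ⁅S.CE, S.CE⁆ ≤ S.K := by
  refine Subgroup.commutator_le.2 fun y hy z hz => ?_
  obtain ⟨a, ha, k, hk, rfl⟩ := S.exists_CE hy
  obtain ⟨b, hb, l, hl, rfl⟩ := S.exists_CE hz
  have c1 : Commute (S.phi a) (S.phi b) := comm_E (mem_E.2 ha) (mem_E.2 hb)
  have c2 : Commute (S.phi a) k := K_comm hk a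
  have c3 : Commute (S.phi a) l := K_comm hl a
  have c4 : Commute (S.phi b) k := K_comm hk b
  have c5 : Commute (S.phi b) l := K_comm hl b
  have e : ⁅S.phi a * k, S.phi b * l⁆ = ⁅k, l⁆ := by
    simp only [commutatorElement_def, mul_inv_rev]
    calc S.phi a * k * (S.phi b * l) * (k⁻¹ * (S.phi a)⁻¹) * (l⁻¹ * (S.phi b)⁻¹)
        = S.phi a * (k * S.phi b) * l * k⁻¹ * ((S.phi a)⁻¹ * l⁻¹) * (S.phi b)⁻¹ := by group
      _ = S.phi a * (S.phi b * k) * l * k⁻¹ * (l⁻¹ * (S.phi a)⁻¹) * (S.phi b)⁻¹ := by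
        rw [c4.symm.eq, (c3.inv_inv).eq]
      _ = (S.phi a * S.phi b) * (k * l * k⁻¹ * l⁻¹) * ((S.phi a)⁻¹ * (S.phi b)⁻¹) := by group
      _ = (k * l * k⁻¹ * l⁻¹) * (S.phi a * S.phi b) * ((S.phi a)⁻¹ * (S.phi b)⁻¹) := by
        rw [← map_mul, K_comm (mul_mem (mul_mem (mul_mem hk hl) (inv_mem hk)) (inv_mem hl))]
      _ = k * l * k⁻¹ * l⁻¹ := by rw [c1.eq]; group
  rw [e]
  exact mul_mem (mul_mem (mul_mem hk hl) (inv_mem hk)) (inv_mem hl)

/-- The derived group of `C(E)` meets `E` trivially. -/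
theorem eq_one_of_commutator {x : G} (hx : x ∈ ⁅S.CE, S.CE⁆) (hE : x ∈ S.E) : x = 1 := by
  obtain ⟨m, -, rfl⟩ := hE
  rcases eq_of_mem_K (commutator_CE_le hx) with rfl | rfl
  · exact map_one _
  · exfalso
    obtain ⟨n, hn, hnt⟩ := S.exists_fusion
    have hle : ⁅S.CE, S.CE⁆.map (MulAut.conj n).toMonoidHom ≤ ⁅S.CE, S.CE⁆ := by
      have hmap : S.CE.map (MulAut.conj n).toMonoidHom ≤ S.CE := by
        rintro _ ⟨y, hy, rfl⟩
        exact CE_conj hn hy
      rw [Subgroup.map_commutator]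
      exact Subgroup.commutator_mono hmap hmap
    have : S.phi (vv 0) ∈ S.K := commutator_CE_le (hle ⟨S.t, S.phi_T ▸ hx, hnt⟩)
    obtain ⟨-, h1, hT, -⟩ := vv_facts.2.2.2.2 0
    rcases eq_of_mem_K this with h | h
    exacts [h1 h, hT h]

theorem L_le_N : S.L ≤ S.N :=
  (Subgroup.closure_le _).2 fun _ ⟨_, hn, hx⟩ =>
    hx ▸ mul_mem (mul_mem hn R_mem_N) (inv_mem hn)

omit [Finite G] in
theorem gen_mem_L {n : G} (hn : n ∈ S.N) : n * S.phi mR * n⁻¹ ∈ S.L :=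
  Subgroup.subset_closure ⟨n, hn, rfl⟩

omit [Finite G] in
theorem R_mem_L : S.phi mR ∈ S.L := by simpa using gen_mem_L (S := S) (one_mem S.N)

omit [Finite G] in
theorem L_conj {n : G} (hn : n ∈ S.N) {l : G} (hl : l ∈ S.L) : n * l * n⁻¹ ∈ S.L := by
  have : S.L ≤ S.L.comap (MulAut.conj n).toMonoidHom := (Subgroup.closure_le _).2 <| by
    rintro _ ⟨m, hm, rfl⟩
    show n * (m * S.phi mR * m⁻¹) * n⁻¹ ∈ S.L
    rw [show n * (m * S.phi mR * m⁻¹) * n⁻¹ = n * m * S.phi mR * (n * m)⁻¹ by group]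
    exact gen_mem_L (mul_mem hn hm)
  exact this hl

/-- `L` acts trivially on `C(E)` modulo `E`. -/
theorem diff_mem_E {l : G} (hl : l ∈ S.L) : ∀ y ∈ S.CE, y⁻¹ * (l * y * l⁻¹) ∈ S.E := by
  induction hl using Subgroup.closure_induction with
  | mem x hx =>
    obtain ⟨n, hn, rfl⟩ := hx
    intro y hy
    have hy' := CE_conj (inv_mem hn) hy
    rw [inv_inv] at hy'
    obtain ⟨m, hm, k, hk, he⟩ := S.exists_CE hy'
    obtain rfl : y = n * (S.phi m * k) * n⁻¹ := by rw [← he]; group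
    have hmem : S.phi (m⁻¹ * (mR * m * mR⁻¹)) ∈ S.E :=
      mem_E.2 (mul_mem (inv_mem hm) ((mR_norm m).1 hm))
    have e : (n * (S.phi m * k) * n⁻¹)⁻¹ *
        (n * S.phi mR * n⁻¹ * (n * (S.phi m * k) * n⁻¹) * (n * S.phi mR * n⁻¹)⁻¹) =
        n * S.phi (m⁻¹ * (mR * m * mR⁻¹)) * n⁻¹ := by
      calc _ = n * (k⁻¹ * (S.phi m⁻¹ * (S.phi mR * S.phi m * (k * S.phi mR⁻¹)))) * n⁻¹ := by
            rw [map_inv, map_inv]; group
        _ = n * (k⁻¹ * (S.phi (m⁻¹ * (mR * m * mR⁻¹)) * k)) * n⁻¹ := by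
            rw [← K_comm hk mR⁻¹]; simp only [map_mul, mul_assoc]
        _ = n * S.phi (m⁻¹ * (mR * m * mR⁻¹)) * n⁻¹ := by
            rw [K_comm hk, inv_mul_cancel_left]
    rw [e]
    exact (mem_N_iff hn).1 hmem
  | one => intro y _; simp
  | mul a b ha _ iha ihb =>
    intro y hy
    have haN := L_le_N ha
    rw [show y⁻¹ * (a * b * y * (a * b)⁻¹) = y⁻¹ * (a * y * a⁻¹) *
      (a * (y⁻¹ * (b * y * b⁻¹)) * a⁻¹) by group]
    exact mul_mem (iha y hy) ((mem_N_iff haN).1 (ihb y hy))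
  | inv a ha iha =>
    intro y hy
    have hy' := CE_conj (inv_mem (L_le_N ha)) hy
    have := inv_mem (iha _ hy')
    rwa [inv_inv, show ((a⁻¹ * y * a)⁻¹ * (a * (a⁻¹ * y * a) * a⁻¹))⁻¹ =
      y⁻¹ * (a⁻¹ * y * a⁻¹⁻¹) by group] at this

theorem L_inf_CE_comm {l : G} (hl : l ∈ S.L) (hlc : l ∈ S.CE) {y : G} (hy : y ∈ S.CE) :
    l * y = y * l := by
  have h := diff_mem_E hl y hy
  have hc : y⁻¹ * (l * y * l⁻¹) ∈ ⁅S.CE, S.CE⁆ := by
    have := Subgroup.commutator_mem_commutator (inv_mem hy) hlc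
    rwa [commutatorElement_def, inv_inv, show y⁻¹ * l * y * l⁻¹ = y⁻¹ * (l * y * l⁻¹) by group]
      at this
  have h1 := eq_one_of_commutator hc h
  rw [inv_mul_eq_one] at h1
  conv_rhs => rw [h1]
  group

/-- `L` fixes no involution of `E`. -/
theorem eq_one_of_fixed {e : G} (he : e ∈ S.E) (h : ∀ l ∈ S.L, l * e = e * l) : e = 1 := by
  have key : ∀ x ∈ S.E, S.phi mR * x = x * S.phi mR → x = 1 ∨ x = S.t := by
    rintro _ ⟨m, hm, rfl⟩ hx
    rcases cent_R m hm (S.inj (by rw [map_mul, map_mul, hx])) with rfl | rfl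
    · exact Or.inl (map_one _)
    · exact Or.inr S.phi_T
  refine (key e he (h _ R_mem_L)).resolve_right fun het => ?_
  subst het
  obtain ⟨n, hn, hnt⟩ := S.exists_fusion
  have hm := (mem_N_iff (inv_mem hn)).1 t_mem_E
  rw [inv_inv] at hm
  have hl := h _ (gen_mem_L hn)
  rcases key _ hm (by
    calc S.phi mR * (n⁻¹ * S.t * n) = n⁻¹ * (n * S.phi mR * n⁻¹ * S.t) * n := by group
      _ = n⁻¹ * (S.t * (n * S.phi mR * n⁻¹)) * n := by rw [hl]
      _ = n⁻¹ * S.t * n * S.phi mR := by group) with h1 | h1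
  · exact S.t_ne_one (by
      calc S.t = n * (n⁻¹ * S.t * n) * n⁻¹ := by group
        _ = 1 := by rw [h1]; group)
  · refine (vv_facts.2.2.2.2 0).2.2.1 (S.inj ?_)
    rw [← hnt, S.phi_T]
    calc n * S.t * n⁻¹ = n * (n⁻¹ * S.t * n) * n⁻¹ := by rw [h1]
      _ = S.t := by group

/-- `C(E)` is the product of `E` and the fixed points of `L`. -/
theorem exists_E_F {y : G} (hy : y ∈ S.CE) : ∃ e ∈ S.E, ∃ f ∈ S.F, y = e * f := by
  classical
  haveI : Fact (Nat.Prime 2) := ⟨Nat.prime_two⟩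
  letI : CommGroup S.E := { S.E.toGroup with
    mul_comm := fun a b => Subtype.ext (comm_E a.2 b.2) }
  let M : Subgroup S.L := S.CE.subgroupOf S.L
  haveI : M.Normal := ⟨fun x hx g => CE_conj (L_le_N g.2) hx⟩
  haveI := Fintype.ofFinite (S.L ⧸ M)
  -- the quotient has odd order
  have hodd : Odd (Fintype.card (S.L ⧸ M)) := by
    rw [← Nat.not_even_iff_odd, even_iff_two_dvd]
    intro h2
    obtain ⟨q, hq⟩ := exists_prime_orderOf_dvd_card 2 h2
    obtain ⟨l, rfl⟩ := QuotientGroup.mk_surjective q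
    obtain ⟨j, m, hm, hlm⟩ := Nat.exists_eq_pow_mul_and_not_dvd (orderOf_pos l).ne' 2 (by norm_num)
    have hpow : ((l : G) ^ m) ^ 2 ^ j = 1 := by
      rw [← pow_mul, mul_comm, ← hlm, ← Subgroup.coe_pow, pow_orderOf_eq_one, Subgroup.coe_one]
    have hmem : l ^ m ∈ M := S.mem_CE_of_pow (pow_mem (L_le_N l.2) m) hpow
    have h1 := (QuotientGroup.eq_one_iff (l ^ m)).2 hmem
    rw [QuotientGroup.mk_pow, ← orderOf_dvd_iff_pow_eq_one, hq] at h1
    exact hm h1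
  let D : S.L → S.E := fun l => ⟨y⁻¹ * ((l : G) * y * (l : G)⁻¹), diff_mem_E l.2 y hy⟩
  let α : S.L → (S.E →* S.E) := fun l =>
    MonoidHom.mk' (fun e => ⟨(l : G) * e * (l : G)⁻¹, (mem_N_iff (L_le_N l.2)).1 e.2⟩)
      fun a b => Subtype.ext (by
        show (l : G) * ((a : G) * b) * (l : G)⁻¹ = _
        exact conj_mul.symm)
  have hD : ∀ l k, D (l * k) = D l * α l (D k) := fun l k => Subtype.ext (by
    show y⁻¹ * ((l : G) * k * y * ((l : G) * k)⁻¹) = _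
    show _ = y⁻¹ * ((l : G) * y * (l : G)⁻¹) * ((l : G) * (y⁻¹ * ((k : G) * y * (k : G)⁻¹)) * (l : G)⁻¹)
    group)
  have hDM : ∀ l k : S.L, (QuotientGroup.mk l : S.L ⧸ M) = QuotientGroup.mk k → D l = D k := by
    intro l k h
    have hc : ((l⁻¹ * k : S.L) : G) * y = y * ((l⁻¹ * k : S.L) : G) :=
      L_inf_CE_comm (l⁻¹ * k).2 (Subgroup.mem_subgroupOf.1 (QuotientGroup.eq.1 h)) hy
    rw [Subgroup.coe_mul, Subgroup.coe_inv] at hc
    refine Subtype.ext ?_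
    show y⁻¹ * ((l : G) * y * (l : G)⁻¹) = y⁻¹ * ((k : G) * y * (k : G)⁻¹)
    calc y⁻¹ * ((l : G) * y * (l : G)⁻¹)
        = y⁻¹ * ((l : G) * (y * ((l : G)⁻¹ * k)) * (k : G)⁻¹) := by group
      _ = y⁻¹ * ((l : G) * (((l : G)⁻¹ * k) * y) * (k : G)⁻¹) := by rw [hc]
      _ = y⁻¹ * ((k : G) * y * (k : G)⁻¹) := by group
  let P : S.E := ∏ q : S.L ⧸ M, D q.out
  have hP : ∀ l : S.L, α l P = P * D l := by
    intro l
    have hterm : ∀ q : S.L ⧸ M, α l (D q.out) = D (QuotientGroup.mk l * q : S.L ⧸ M).out * D l := by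
      intro q
      rw [hDM (QuotientGroup.mk l * q : S.L ⧸ M).out (l * q.out) (by
        rw [QuotientGroup.out_eq', QuotientGroup.mk_mul, QuotientGroup.out_eq']), hD, mul_comm,
        ← mul_assoc, show D l * D l = 1 from Subtype.ext (sq_E (D l).2), one_mul]
    rw [map_prod, Finset.prod_congr rfl fun q _ => hterm q, Finset.prod_mul_distrib,
      Finset.prod_const, Finset.card_univ]
    congr 1
    · exact Fintype.prod_equiv (Equiv.mulLeft (QuotientGroup.mk l : S.L ⧸ M)) _ _ fun q => rfl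
    · obtain ⟨i, hi⟩ := hodd
      rw [hi, pow_add, pow_mul, pow_one, pow_two, show D l * D l = 1 from Subtype.ext (sq_E (D l).2),
        one_pow, one_mul]
  have hPc : (P : G) ∈ S.CE := Subgroup.mem_centralizer_iff.2 fun e he => comm_E he P.2
  have hy' : (P : G) * y = y * (P : G) := CE_comm hy P.2
  refine ⟨P, P.2, P * y, ⟨mul_mem hPc hy, Subgroup.mem_centralizer_iff.2 fun l hl => ?_⟩, ?_⟩
  · have h := congrArg Subtype.val (hP ⟨l, hl⟩)
    change l * (P : G) * l⁻¹ = P * (y⁻¹ * (l * y * l⁻¹)) at h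
    have hd : y⁻¹ * (l * y * l⁻¹) ∈ S.E := diff_mem_E hl y hy
    rw [← mul_inv_eq_iff_eq_mul]
    calc l * ((P : G) * y) * l⁻¹ = (l * (P : G) * l⁻¹) * (y * (y⁻¹ * (l * y * l⁻¹))) := by group
      _ = (P : G) * (y⁻¹ * (l * y * l⁻¹)) * (y * (y⁻¹ * (l * y * l⁻¹))) := by rw [h]
      _ = (P : G) * ((y⁻¹ * (l * y * l⁻¹)) * y * (y⁻¹ * (l * y * l⁻¹))) := by
        simp only [mul_assoc]
      _ = (P : G) * y := by
        rw [CE_comm hy hd, mul_assoc y, sq_E hd, mul_one]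
  · rw [← mul_assoc, sq_E P.2, one_mul]

theorem F_le_K : S.F ≤ S.K := by
  rintro f ⟨hf, hfL⟩
  obtain ⟨m, hm, k, hk, rfl⟩ := S.exists_CE hf
  refine mul_mem ?_ hk
  have h := Subgroup.mem_centralizer_iff.1 hfL _ R_mem_L
  rw [← mul_assoc, mul_assoc (S.phi m) k, ← K_comm hk mR, ← mul_assoc, ← map_mul, ← map_mul] at h
  rcases cent_R m hm (S.inj (mul_right_cancel h)).symm with rfl | rfl
  · rw [map_one]; exact one_mem _
  · rw [S.phi_T]
    exact mem_K fun n => comm_t n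

omit [Finite G] in
theorem F_conj {n : G} (hn : n ∈ S.N) {f : G} (hf : f ∈ S.F) : n * f * n⁻¹ ∈ S.F := by
  refine ⟨CE_conj hn hf.1, Subgroup.mem_centralizer_iff.2 fun l hl => ?_⟩
  have hl' := L_conj (inv_mem hn) hl
  rw [inv_inv] at hl'
  calc l * (n * f * n⁻¹) = n * (n⁻¹ * l * n * f) * n⁻¹ := by group
    _ = n * (f * (n⁻¹ * l * n)) * n⁻¹ := by rw [Subgroup.mem_centralizer_iff.1 hf.2 _ hl']
    _ = n * f * n⁻¹ * l := by group

/-- The centraliser of `t` is the product of the image of the model and `F`. -/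
theorem exists_cent {c : G} (hc : c * S.t = S.t * c) :
    ∃ m : Mdl, ∃ f ∈ S.F, c = S.phi m * f := by
  obtain ⟨w, hw⟩ := S.exists_decomp hc
  obtain ⟨e, he, f, hf, h⟩ := S.exists_E_F (K_le_CE hw)
  obtain ⟨a, -, rfl⟩ := he
  exact ⟨w⁻¹ * a, f, hf, by rw [map_mul, map_inv, mul_assoc, ← h, inv_mul_cancel_left]⟩

theorem F_comm {f : G} (hf : f ∈ S.F) (m : Mdl) : S.phi m * f = f * S.phi m :=
  K_comm (F_le_K hf) m

theorem F_comm_t {f : G} (hf : f ∈ S.F) : f * S.t = S.t * f := K_comm_t (F_le_K hf)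

theorem cent_normalizes_F {c : G} (hc : c * S.t = S.t * c) {f : G} (hf : f ∈ S.F) :
    c * f * c⁻¹ ∈ S.F := by
  obtain ⟨m, g, hg, rfl⟩ := S.exists_cent hc
  have h := mul_mem (mul_mem hg hf) (inv_mem hg)
  rwa [show S.phi m * g * f * (S.phi m * g)⁻¹ = S.phi m * (g * f * g⁻¹) * (S.phi m)⁻¹ by group,
    F_comm h, mul_inv_cancel_right]

theorem range_inf_F {m : Mdl} (h : S.phi m ∈ S.F) : m = 1 := by
  refine (eq_of_mem_K (F_le_K h)).resolve_right ?_
  rintro rfl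
  rw [S.phi_T] at h
  exact S.t_ne_one (eq_one_of_fixed t_mem_E fun l hl => Subgroup.mem_centralizer_iff.1 h.2 l hl)

end Setting

end CfsgLib.J1Closure
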