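import Cfsg.Agent.Transfer.Abelian
import Cfsg.Agent.CentTwoAlt.Main
import Cfsg.Agent.J1Closure.Count

/-!
# The normal closure of an involution with weak closure `Z/2 × A₅` in its centraliser is `J₁`

Relative to the recognition of `J₁` as the simple group with such an involution centraliser and
abelian Sylow 2-subgroups of order eight; by induction on the order of the group.
-/

set_option autoImplicit false
set_option linter.style.haveILetI false

namespace CfsgLib.J1Closure

open Cfsg
open CfsgLib.J1Order (Mdl mT mV mR mU mP mT_mul mT_facts sq_mP)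

universe u

/-- The recognition of `J₁` by an involution centraliser. -/
def Recognition : Prop := ∀ (G : Type u) [Group G] [Finite G], IsSimpleGroup G →
  ∀ Q : Sylow 2 G, IsMulCommutative (Q : Subgroup G) → Nat.card (Q : Subgroup G) = 8 →
    ∀ t : G, orderOf t = 2 →
      ((Subgroup.centralizer ({t} : Set G)) ≃*
        Multiplicative (ZMod 2) × alternatingGroup (Fin 5)) → Spor.IsoJ1 G

/-- The induction hypothesis. -/
def Below (n : ℕ) : Prop := ∀ (G : Type u) [Group G] [Finite G] (S : Setting G),
  Nat.card G < n → Spor.IsoJ1 (Subgroup.normalClosure ({S.t} : Set G))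

theorem iso_of_equiv {A B : Type*} [Group A] [Group B] (e : A ≃* B) (h : Spor.IsoJ1 B) :
    Spor.IsoJ1 A := h.elim fun f => ⟨e.trans f⟩

theorem vv_commutator : mR * vv 1 * mR⁻¹ * (vv 1)⁻¹ = vv 0 := by decide +kernel

namespace Setting

variable {G : Type u} [Group G] [Finite G] (S : Setting G)

/-- The inductive hypothesis for a proper subgroup. -/
theorem iso_closureIn (ih : Below.{u} (Nat.card G)) (H : Subgroup G) (hW : S.phi.range ≤ H)
    (hL : S.L ≤ H) (hne : H ≠ ⊤) : Spor.IsoJ1 (S.closureIn H) := by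
  have hlt : Nat.card H < Nat.card G := by
    refine lt_of_le_of_ne (Nat.le_of_dvd Nat.card_pos (Subgroup.card_subgroup_dvd_card H)) fun h => ?_
    exact hne (Subgroup.eq_top_of_card_eq H h)
  have := ih H (S.restrict H hW hL) hlt
  refine iso_of_equiv ?_ this
  exact (MulEquiv.subgroupCongr (S.map_normalClosure_restrict H hW hL).symm).trans
    (Subgroup.equivMapOfInjective _ H.subtype H.subtype_injective).symm

theorem commutator_eq_top (hX : S.closureIn ⊤ = ⊤) : commutator G = ⊤ := by
  have hv : S.phi (vv 0) ∈ commutator G := by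
    have := Subgroup.commutator_mem_commutator (Subgroup.mem_top (S.phi mR))
      (Subgroup.mem_top (S.phi (vv 1)))
    rwa [commutatorElement_def, ← map_inv, ← map_inv, ← map_mul, ← map_mul, ← map_mul,
      vv_commutator] at this
  obtain ⟨g, hg⟩ := cls_iff.1
    (S.cls_of_mem_E (vv_facts.2.2.2.2 0).1 (vv_facts.2.2.2.2 0).2.1)
  have ht : S.t ∈ commutator G := by
    have h' := (inferInstance : (commutator G).Normal).conj_mem _ hv g⁻¹
    rwa [← hg, show g⁻¹ * (g * S.t * g⁻¹) * g⁻¹⁻¹ = S.t by group] at h'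
  refine top_le_iff.1 (hX ▸ (Subgroup.closure_le _).2 ?_)
  rintro _ ⟨h, -, rfl⟩
  exact (inferInstance : (commutator G).Normal).conj_mem _ ht h

/-- The case of a trivial complement. -/
theorem iso_of_trivial (hrec : Recognition.{u}) (hX : S.closureIn ⊤ = ⊤)
    (hF : ∀ f ∈ S.F, f = 1) : Spor.IsoJ1 G := by
  have hr : S.phi.range = Subgroup.centralizer ({S.t} : Set G) := by
    refine le_antisymm ?_ fun c hc => ?_
    · rintro _ ⟨m, rfl⟩
      exact Subgroup.mem_centralizer_singleton_iff.2 (comm_t m)
    · obtain ⟨m, f, hf, rfl⟩ := S.exists_cent (Subgroup.mem_centralizer_singleton_iff.1 hc)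
      exact ⟨m, by rw [hF f hf, mul_one]⟩
  have ht2 : orderOf S.t = 2 := orderOf_eq_prime (by rw [pow_two, t_mul_t]) S.t_ne_one
  have hcomm := S.commutator_eq_top hX
  have hns : ¬ Group.IsSolvable G := by
    intro hs
    haveI : Nontrivial G := ⟨⟨S.t, 1, S.t_ne_one⟩⟩
    have := Group.IsSolvable.commutator_lt_top_of_nontrivial G
    exact this.ne hcomm
  have h2 : ∀ H : Subgroup G, H.index ≠ 2 := by
    intro H h
    have hle : commutator G ≤ H := by
      refine Subgroup.commutator_le.2 fun a _ b _ => ?_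
      rw [commutatorElement_def]
      simp only [Subgroup.mul_mem_iff_of_index_two h, inv_mem_iff]
      tauto
    rw [hcomm, top_le_iff] at hle
    rw [hle, Subgroup.index_top] at h
    omega
  obtain ⟨hs, Q, hQ, h8⟩ := CentTwoAlt.case_five hns h2
    (J := S.t) ⟨ht2, S.P₀, E_le_P₀ t_mem_E, fun x hx => P₀_comm hx⟩ S.phi S.inj hr S.phi_T
  exact hrec G hs Q hQ h8 S.t ht2
    ((MulEquiv.subgroupCongr hr.symm).trans (MonoidHom.ofInjective S.inj).symm)

section Quotient

variable (Z : Subgroup G) (hZF : Z ≤ S.F) (hZ : Z ≤ Subgroup.center G)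
include hZF hZ

/-- The setting in the quotient by a central subgroup of `F`. -/
theorem exists_quotient [Z.Normal] :
    ∃ T : Setting (G ⧸ Z), T.t = QuotientGroup.mk S.t ∧
      ∀ m, T.phi m = QuotientGroup.mk (S.phi m) := by
  haveI : Fact (Nat.Prime 2) := ⟨Nat.prime_two⟩
  have hinj : Function.Injective ((QuotientGroup.mk' Z).comp S.phi) :=
    (injective_iff_map_eq_one _).2 fun m hm =>
      range_inf_F (hZF ((QuotientGroup.eq_one_iff _).1 hm))
  refine ⟨{ t := QuotientGroup.mk S.t
            phi := (QuotientGroup.mk' Z).comp S.phi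
            inj := hinj
            phi_T := congrArg QuotientGroup.mk S.phi_T
            weak := ?_
            fused := ?_
            central := ?_ }, rfl, fun m => rfl⟩
  · intro q hq
    obtain ⟨g, rfl⟩ := QuotientGroup.mk_surjective q
    have hcl : S.Cls (g * S.t * g⁻¹) := cls_iff.2 ⟨g, rfl⟩
    generalize hu : g * S.t * g⁻¹ = w at hcl
    rw [← QuotientGroup.mk_mul, ← QuotientGroup.mk_inv, ← QuotientGroup.mk_mul, hu,
      ← QuotientGroup.mk_mul, ← QuotientGroup.mk_mul] at hq
    have hzZ : (S.t * w)⁻¹ * (w * S.t) ∈ Z := QuotientGroup.eq.1 hq.symm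
    generalize hz : (S.t * w)⁻¹ * (w * S.t) = z at hzZ
    have hzc : ∀ y : G, y * z = z * y := Subgroup.mem_center_iff.1 (hZ hzZ)
    have hwi : w⁻¹ = w := inv_eq_of_mul_eq_one_right hcl.sq
    have hti : S.t⁻¹ = S.t := inv_eq_of_mul_eq_one_right t_mul_t
    have hwtw : w * S.t * w = z * S.t := by
      rw [← hz, mul_inv_rev, hwi, hti]
      calc w * S.t * w = w * S.t * w * (S.t * S.t) := by rw [t_mul_t, mul_one]
        _ = w * S.t * (w * S.t) * S.t := by group
    have hzt : S.Cls (z * S.t) := by
      rw [← hwtw]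
      have := (cls_t (S := S)).conj w
      rwa [hwi] at this
    obtain ⟨m, hm⟩ := hzt.mem_range (by rw [mul_assoc, t_mul_t, mul_one, ← mul_assoc,
      hzc S.t, mul_assoc, t_mul_t, mul_one])
    have hz1 : z = 1 := by
      have e : z = S.phi (m * mT) := by
        rw [map_mul, hm, S.phi_T, mul_assoc, t_mul_t, mul_one]
      rw [e, range_inf_F (m := m * mT) (e ▸ hZF hzZ), map_one]
    have hc : w * S.t = S.t * w := by
      rw [hz1, one_mul] at hwtw
      calc w * S.t = w * S.t * (w * w) := by rw [hcl.sq, mul_one]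
        _ = S.t * w := by rw [← mul_assoc, hwtw]
    obtain ⟨k, hk⟩ := hcl.mem_range hc
    exact ⟨k, (congrArg QuotientGroup.mk (hk.trans hu.symm))⟩
  · obtain ⟨g, ⟨m, hm⟩, hne⟩ := S.fused
    refine ⟨QuotientGroup.mk g, ⟨m, congrArg QuotientGroup.mk hm⟩, fun h => hne ?_⟩
    have h1 : (QuotientGroup.mk' Z).comp S.phi m = (QuotientGroup.mk' Z).comp S.phi mT :=
      (congrArg QuotientGroup.mk hm).trans (h.trans (congrArg QuotientGroup.mk S.phi_T.symm))
    rw [← hm, hinj h1, S.phi_T]
  · refine ⟨S.P₀.mapSurjective (QuotientGroup.mk'_surjective Z), fun q hq => ?_⟩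
    obtain ⟨x, hx, rfl⟩ := hq
    exact congrArg QuotientGroup.mk (P₀_comm hx)

theorem card_Z_eq_one (hX : S.closureIn ⊤ = ⊤) [Z.Normal] (hJ : Spor.IsoJ1 (G ⧸ Z)) :
    Z = ⊥ := by
  by_contra hne
  obtain ⟨p, hp, hpd⟩ := Nat.exists_prime_and_dvd
    (show Nat.card Z ≠ 1 from fun h => hne (Subgroup.card_eq_one.1 h))
  haveI := Fact.mk hp
  haveI : Fact (Nat.Prime 2) := ⟨Nat.prime_two⟩
  obtain ⟨z, hz⟩ := exists_prime_orderOf_dvd_card' (G := Z) p hpd
  rw [← Subgroup.orderOf_coe] at hz
  obtain ⟨P, hP⟩ := (IsPGroup.of_card (n := 1)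
    (show Nat.card (Subgroup.zpowers (z : G)) = p ^ 1 by
      rw [Nat.card_zpowers, hz, pow_one])).exists_le_sylow
  have hzc : ∀ y : G, y * z = z * y := Subgroup.mem_center_iff.1 (hZ z.2)
  -- a Sylow subgroup is abelian
  have hab : IsMulCommutative (P : Subgroup G) := by
    by_cases hp2 : p = 2
    · subst hp2
      obtain ⟨T, hTt, hTphi⟩ := S.exists_quotient Z hZF hZ
      have hcard : Nat.card (Subgroup.centralizer ({T.t} : Set (G ⧸ Z))) = 120 :=
        iso_card_centralizer hJ T.t_mul_t T.t_ne_one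
      have hr : T.phi.range = Subgroup.centralizer ({T.t} : Set (G ⧸ Z)) := by
        refine Subgroup.eq_of_le_of_card_ge ?_ (le_of_eq ?_)
        · rintro _ ⟨m, rfl⟩
          exact Subgroup.mem_centralizer_singleton_iff.2 (comm_t m)
        · rw [hcard, Nat.card_congr (MonoidHom.ofInjective T.inj).symm.toEquiv,
            Nat.card_eq_fintype_card, J1Order.card_mdl]
      have hFZ : ∀ f ∈ S.F, f ∈ Z := by
        intro f hf
        have hf' : (QuotientGroup.mk f : G ⧸ Z) ∈ T.phi.range := by
          rw [hr, Subgroup.mem_centralizer_singleton_iff, hTt, ← QuotientGroup.mk_mul,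
            ← QuotientGroup.mk_mul, F_comm_t hf]
        obtain ⟨m, hm⟩ := hf'
        rw [hTphi] at hm
        have h1 : (S.phi m)⁻¹ * f ∈ Z := QuotientGroup.eq.1 hm
        have hmF : S.phi m ∈ S.F := by
          have := mul_mem hf (inv_mem (hZF h1))
          rwa [mul_inv_rev, inv_inv, mul_inv_cancel_left] at this
        rw [range_inf_F hmF, map_one, inv_one, one_mul] at h1
        exact h1
      have hP₀ : ∀ x ∈ S.P₀, ∀ y ∈ S.P₀, x * y = y * x := by
        intro x hx y hy
        obtain ⟨a, f, hf, rfl⟩ := S.exists_cent (P₀_comm hx)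
        obtain ⟨b, f', hf', rfl⟩ := S.exists_cent (P₀_comm hy)
        have hc : ∀ {m : Mdl} {k : G}, k ∈ S.F → S.phi m * k ∈ S.P₀ → S.phi m ∈ S.E := by
          intro m k hk hmk
          have hmCE : S.phi m ∈ S.CE := by
            have := mul_mem (P₀_le_CE hmk) (inv_mem (K_le_CE (F_le_K hk)))
            rwa [mul_inv_cancel_right] at this
          refine mem_E.2 (cent_mP m ?_ ?_) <;>
            exact S.inj (by rw [map_mul, map_mul, CE_comm hmCE (mem_E.2 (vv_facts.2.2.2.2 _).1)])
        have hfz : ∀ y : G, y * f = f * y := Subgroup.mem_center_iff.1 (hZ (hFZ f hf))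
        have hfz' : ∀ y : G, y * f' = f' * y := Subgroup.mem_center_iff.1 (hZ (hFZ f' hf'))
        calc S.phi a * f * (S.phi b * f') = S.phi a * S.phi b * (f * f') := by
              rw [(show Commute f (S.phi b) from (hfz _).symm).mul_mul_mul_comm]
          _ = S.phi b * S.phi a * (f' * f) := by
              rw [comm_E (hc hf hx) (hc hf' hy), hfz' f]
          _ = S.phi b * f' * (S.phi a * f) := by
              rw [(show Commute f' (S.phi a) from (hfz' _).symm).mul_mul_mul_comm]
      haveI : IsMulCommutative (S.P₀ : Subgroup G) :=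
        ⟨⟨fun a b => Subtype.ext (hP₀ a a.2 b b.2)⟩⟩
      exact ⟨⟨fun a b => (S.P₀.equiv P).symm.injective (by
        rw [map_mul, map_mul]; exact mul_comm' _ _)⟩⟩
    · haveI : IsCyclic ((QuotientGroup.mk' Z).comp (P : Subgroup G).subtype).range := by
        obtain ⟨k, hk⟩ := (P.isPGroup'.of_surjective _
          ((QuotientGroup.mk' Z).comp (P : Subgroup G).subtype).rangeRestrict_surjective).exists_card_eq
        refine isCyclic_of_card_dvd_prime (p := p) ?_
        have hd : p ^ k ∣ 175560 := by
          rw [← hk, ← iso_card hJ]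
          exact Subgroup.card_subgroup_dvd_card _
        rw [hk]
        refine (pow_dvd_pow p ?_).trans (pow_one p).dvd
        by_contra hc
        have h2 := (pow_dvd_pow p (show 2 ≤ k by omega)).trans hd
        rw [show (175560 : ℕ) = 2 ^ 3 * 21945 from rfl] at h2
        have h3 := (((Nat.coprime_primes hp Nat.prime_two).2 hp2).pow 2 3).dvd_of_dvd_mul_left h2
        have hsq : Squarefree (21945 : ℕ) := by
          rw [Nat.squarefree_iff_nodup_primeFactorsList (by norm_num)]
          simp +decide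
        exact hp.ne_one (Nat.isUnit_iff.1 (hsq p (pow_two p ▸ h3)))
      refine ⟨⟨fun a b => commutative_of_cyclic_center_quotient
        ((QuotientGroup.mk' Z).comp (P : Subgroup G).subtype).rangeRestrict ?_ a b⟩⟩
      intro a ha
      have ha' : (a : G) ∈ Z := by
        rw [MonoidHom.ker_rangeRestrict, MonoidHom.mem_ker] at ha
        exact (QuotientGroup.eq_one_iff _).1 ha
      exact Subgroup.mem_center_iff.2 fun b => Subtype.ext (Subgroup.mem_center_iff.1 (hZ ha') b)
  have hbot := Transfer.inf_commutator_inf_center_eq_bot _ hab P.card_coprime_index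
  have hmem : (z : G) ∈ (P : Subgroup G) ⊓ commutator G ⊓ Subgroup.center G :=
    ⟨⟨hP (Subgroup.mem_zpowers _), by rw [S.commutator_eq_top hX]; exact Subgroup.mem_top _⟩,
      hZ z.2⟩
  rw [hbot, Subgroup.mem_bot] at hmem
  rw [hmem, orderOf_one] at hz
  exact hp.ne_one hz.symm

end Quotient

/-- The group generated by the conjugates of `t` is `J₁`. -/
theorem iso_top (hrec : Recognition.{u}) (ih : Below.{u} (Nat.card G))
    (hX : S.closureIn ⊤ = ⊤) : Spor.IsoJ1 G := by
  classical
  by_cases hF : ∀ f ∈ S.F, f = 1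
  · exact S.iso_of_trivial hrec hX hF
  let Z := S.F ⊓ Subgroup.center G
  haveI : Z.Normal := ⟨fun z hz g => by
    rwa [Subgroup.mem_center_iff.1 hz.2 g, mul_inv_cancel_right]⟩
  by_cases hZ : Z = ⊥
  swap
  · -- a central extension
    exfalso
    obtain ⟨T, hTt, -⟩ := S.exists_quotient Z inf_le_left inf_le_right
    have hlt : Nat.card (G ⧸ Z) < Nat.card G := by
      rw [← Subgroup.index_eq_card, ← Z.index_mul_card]
      refine lt_mul_of_one_lt_right (Nat.pos_of_ne_zero Subgroup.index_ne_zero_of_finite) ?_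
      exact Finite.one_lt_card_iff_nontrivial.2 (Z.nontrivial_iff_ne_bot.2 hZ)
    have hJ := ih _ T hlt
    have htop : Subgroup.normalClosure ({T.t} : Set (G ⧸ Z)) = ⊤ := by
      have := Subgroup.map_normalClosure {S.t} _ (QuotientGroup.mk'_surjective Z)
      rw [Set.image_singleton, ← S.closureIn_top, hX,
        Subgroup.map_top_of_surjective _ (QuotientGroup.mk'_surjective Z)] at this
      rw [hTt]
      exact this.symm
    exact hZ (S.card_Z_eq_one Z inf_le_left inf_le_right hX
      (iso_of_equiv ((Subgroup.topEquiv).symm.trans (MulEquiv.subgroupCongr htop.symm)) hJ))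
  -- the normaliser of `F`
  exfalso
  push Not at hF
  obtain ⟨f₀, hf₀, hf₀1⟩ := hF
  set M := Subgroup.normalizer (S.F : Set G) with hMdef
  have hW : S.phi.range ≤ M := by
    rintro _ ⟨m, rfl⟩
    refine Subgroup.mem_normalizer_iff.2 fun x => ⟨fun hx => ?_, fun hx => ?_⟩
    · rwa [F_comm hx, mul_inv_cancel_right]
    · have := F_comm hx m
      rw [inv_mul_cancel_right] at this
      rwa [mul_left_cancel this] at hx
  have hconj : ∀ {g : G}, (∀ f ∈ S.F, g * f * g⁻¹ ∈ S.F) → g ∈ M := fun {g} h =>
    Subgroup.mem_normalizer_iff_map_conj_eq.2 (Subgroup.eq_of_le_of_card_ge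
      (Subgroup.map_le_iff_le_comap.2 h)
      (Subgroup.card_map_of_injective (MulAut.conj g).injective).ge)
  have hN : S.N ≤ M := fun n hn => hconj fun f hf => F_conj hn hf
  have hC : ∀ c, c * S.t = S.t * c → c ∈ M := fun c hc => hconj fun f hf => cent_normalizes_F hc hf
  have hcenter : ∀ f ∈ S.F, (∀ x, x * f = f * x) → f = 1 := fun f hf h =>
    Subgroup.mem_bot.1 (hZ ▸ ⟨hf, Subgroup.mem_center_iff.2 h⟩)
  have hne : M ≠ ⊤ := by
    intro hM
    refine hf₀1 (hcenter f₀ hf₀ fun x => ?_)
    have htop : S.closureIn ⊤ ≤ Subgroup.centralizer (S.F : Set G) := by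
      refine (Subgroup.closure_le _).2 ?_
      rintro _ ⟨h, -, rfl⟩
      refine Subgroup.mem_centralizer_iff.2 fun f hf => ?_
      have hf' : h⁻¹ * f * h ∈ S.F := by
        have := (Subgroup.mem_normalizer_iff.1 (hM ▸ Subgroup.mem_top h⁻¹ : h⁻¹ ∈ M) f).1 hf
        rwa [inv_inv] at this
      calc f * (h * S.t * h⁻¹) = h * (h⁻¹ * f * h * S.t) * h⁻¹ := by group
        _ = h * (S.t * (h⁻¹ * f * h)) * h⁻¹ := by rw [F_comm_t hf']
        _ = h * S.t * h⁻¹ * f := by group
    exact (Subgroup.mem_centralizer_iff.1 ((hX.ge.trans htop) (Subgroup.mem_top x)) f₀ hf₀).symm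
  have hLM := L_le_N.trans hN
  have hiso := S.iso_closureIn ih M hW hLM hne
  have hJM : S.closureIn M ≤ M := S.closureIn_le (S.t_mem_of_range hW)
  have hcomm : ∀ j ∈ S.closureIn M, ∀ f ∈ S.F, j * f = f * j := by
    intro j hj f hf
    have : S.closureIn M ≤ Subgroup.centralizer (S.F : Set G) := by
      refine (Subgroup.closure_le _).2 ?_
      rintro _ ⟨h, hh, rfl⟩
      refine Subgroup.mem_centralizer_iff.2 fun f hf => ?_
      have hf' : h⁻¹ * f * h ∈ S.F := by
        have := (Subgroup.mem_normalizer_iff.1 (inv_mem hh) f).1 hf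
        rwa [inv_inv] at this
      calc f * (h * S.t * h⁻¹) = h * (h⁻¹ * f * h * S.t) * h⁻¹ := by group
        _ = h * (S.t * (h⁻¹ * f * h)) * h⁻¹ := by rw [F_comm_t hf']
        _ = h * S.t * h⁻¹ * f := by group
    exact (Subgroup.mem_centralizer_iff.1 (this hj) f hf).symm
  have hdisj : ∀ x ∈ S.closureIn M, x ∈ S.F → x = 1 := by
    intro x hx hxF
    let W : Subgroup (S.closureIn M) := S.phi.range.subgroupOf (S.closureIn M)
    have hle : W ≤ Subgroup.centralizer ({⟨S.t, S.t_mem_closureIn M⟩} : Set (S.closureIn M)) := by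
      rintro ⟨y, hy⟩ ⟨m, hm⟩
      refine Subgroup.mem_centralizer_singleton_iff.2 (Subtype.ext ?_)
      show y * S.t = S.t * y
      rw [show y = S.phi m from hm.symm, comm_t]
    have heq : W = _ := Subgroup.eq_of_le_of_card_ge hle (by
      rw [iso_card_centralizer hiso (Subtype.ext t_mul_t)
        (fun h => S.t_ne_one (congrArg Subtype.val h)),
        Nat.card_congr (Subgroup.subgroupOfEquivOfLe (S.range_le_closureIn hW hN)).toEquiv,
        Nat.card_congr (MonoidHom.ofInjective S.inj).symm.toEquiv, Nat.card_eq_fintype_card,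
        J1Order.card_mdl])
    have hxW : (⟨x, hx⟩ : S.closureIn M) ∈ W := by
      rw [heq]
      exact Subgroup.mem_centralizer_singleton_iff.2 (Subtype.ext (F_comm_t hxF))
    obtain ⟨m, hm⟩ := hxW
    change S.phi m = x at hm
    rw [← hm, range_inf_F (m := m) (hm.symm ▸ hxF), map_one]
  have hout : ∃ u, S.Cls u ∧ u ∉ M := by
    by_contra hno
    push Not at hno
    refine hne (top_le_iff.1 (hX ▸ (Subgroup.closure_le _).2 ?_))
    rintro _ ⟨h, -, rfl⟩
    exact hno _ (cls_iff.2 ⟨h, rfl⟩)
  have hstrong : S.Strong M :=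
    { hW := hW
      hN := hN
      hC := hC
      iso := hiso
      commute := hcomm
      disjoint := hdisj
      outside := hout
      centF := by
        intro f hf hf1 x hx
        set H := Subgroup.centralizer ({f} : Set G) with hH
        have hWH : S.phi.range ≤ H := by
          rintro _ ⟨m, rfl⟩
          exact Subgroup.mem_centralizer_singleton_iff.2 (F_comm hf m)
        have hLH : S.L ≤ H := fun l hl =>
          Subgroup.mem_centralizer_singleton_iff.2 (Subgroup.mem_centralizer_iff.1 hf.2 l hl)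
        have hHne : H ≠ ⊤ := fun h => hf1 (hcenter f hf fun y =>
          Subgroup.mem_centralizer_singleton_iff.1
            (show y ∈ H by rw [h]; exact Subgroup.mem_top y))
        have hJH := S.iso_closureIn ih H hWH hLH hHne
        have hle : S.closureIn M ≤ S.closureIn H := by
          rw [← S.closureIn_self hW hN]
          refine (Subgroup.closure_le _).2 ?_
          rintro _ ⟨j, hj, rfl⟩
          exact S.conj_mem_closureIn
            (Subgroup.mem_centralizer_singleton_iff.2 (hcomm j hj f hf))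
        have heq : S.closureIn M = S.closureIn H := Subgroup.eq_of_le_of_card_ge hle
          (by rw [iso_card hiso, iso_card hJH])
        have hxt : x * S.t * x⁻¹ ∈ M := hJM (heq.symm ▸
          S.conj_mem_closureIn (Subgroup.mem_centralizer_singleton_iff.2 hx))
        obtain ⟨m, hm, hmt⟩ := S.fused_in hW hLM (cls_iff.2 ⟨x, rfl⟩) hxt
        have := hC (m⁻¹ * x) (by
          calc m⁻¹ * x * S.t = m⁻¹ * (x * S.t * x⁻¹) * x := by group
            _ = m⁻¹ * (m * S.t * m⁻¹) * x := by rw [hmt]
            _ = S.t * (m⁻¹ * x) := by group)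
        simpa using mul_mem hm this }
  exact hstrong.false ⟨f₀, hf₀, hf₀1⟩

theorem iso_step (hrec : Recognition.{u}) (ih : Below.{u} (Nat.card G)) :
    Spor.IsoJ1 (Subgroup.normalClosure ({S.t} : Set G)) := by
  rw [← S.closureIn_top]
  by_cases hX : S.closureIn ⊤ = ⊤
  · exact iso_of_equiv ((MulEquiv.subgroupCongr hX).trans Subgroup.topEquiv)
      (S.iso_top hrec ih hX)
  have hW : S.phi.range ≤ S.closureIn ⊤ := S.range_le_closureIn le_top le_top
  have hL : S.L ≤ S.closureIn ⊤ := S.L_le_closureIn le_top le_top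
  have := S.iso_closureIn ih _ hW hL hX
  rwa [S.closureIn_self le_top le_top] at this

end Setting

/-- The theorem. -/
theorem main (hrec : Recognition.{u}) : ∀ {G : Type u} [Group G] [Finite G] (S : Setting G),
    Spor.IsoJ1 (Subgroup.normalClosure ({S.t} : Set G)) := by
  suffices h : ∀ n, Below.{u} n from fun {G} _ _ S => h (Nat.card G + 1) G S (Nat.lt_succ_self _)
  intro n
  induction n with
  | zero => exact fun G _ _ S h => absurd h (Nat.not_lt_zero _)
  | succ k ih =>
    intro G _ _ S hS
    exact S.iso_step hrec fun H _ _ T hT => ih H T (lt_of_lt_of_le hT (Nat.lt_succ_iff.1 hS))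

/-- The theorem, from the isomorphism type of the weak closure of the involution. -/
theorem main_weak_closure (hrec : Recognition.{u}) {G : Type u} [Group G] [Finite G] (t : G)
    (ht : orderOf t = 2) (P : Sylow 2 G) (hP : ∀ x ∈ P, x * t = t * x)
    (hW : Nonempty (↥(Subgroup.closure {x : G | ∃ g : G, x = g * t * g⁻¹ ∧ x * t = t * x}) ≃*
      Mdl)) :
    Spor.IsoJ1 (Subgroup.normalClosure ({t} : Set G)) := by
  obtain ⟨e⟩ := hW
  set W := Subgroup.closure {x : G | ∃ g : G, x = g * t * g⁻¹ ∧ x * t = t * x} with hWdef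
  have htW : t ∈ W := Subgroup.subset_closure ⟨1, by group, rfl⟩
  have hWc : W ≤ Subgroup.centralizer ({t} : Set G) := by
    refine (Subgroup.closure_le _).2 ?_
    rintro x ⟨_, _, hx⟩
    exact Subgroup.mem_centralizer_singleton_iff.2 hx
  have hWt : ∀ y ∈ W, y * t = t * y := fun y hy =>
    Subgroup.mem_centralizer_singleton_iff.1 (hWc hy)
  have he : e ⟨t, htW⟩ = mT := by
    refine (J1Order.center_mdl (e ⟨t, htW⟩) fun n => ?_).resolve_left fun h => ?_
    · obtain ⟨y, rfl⟩ := e.surjective n
      rw [← map_mul, ← map_mul]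
      exact congrArg e (Subtype.ext (hWt y y.2).symm)
    · rw [MulEquiv.map_eq_one_iff] at h
      rw [show t = 1 from congrArg Subtype.val h, orderOf_one] at ht
      omega
  have hmem : ∀ {g : G}, g * t * g⁻¹ * t = t * (g * t * g⁻¹) → g * t * g⁻¹ ∈ W := fun {g} h =>
    Subgroup.subset_closure ⟨g, rfl, h⟩
  let φ : Mdl →* G := W.subtype.comp e.symm.toMonoidHom
  have hφ : ∀ {y : G}, y ∈ W → y ∈ φ.range := fun {y} hy =>
    ⟨e ⟨y, hy⟩, congrArg Subtype.val (e.symm_apply_apply ⟨y, hy⟩)⟩
  let S : Setting G :=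
    { t := t
      phi := φ
      inj := Subtype.val_injective.comp e.symm.injective
      phi_T := by
        show ((e.symm mT : W) : G) = t
        rw [← he, e.symm_apply_apply]
      weak := fun g h => hφ (hmem h)
      fused := by
        by_contra hno
        push Not at hno
        have hle : W ≤ Subgroup.zpowers t := by
          refine (Subgroup.closure_le _).2 ?_
          rintro _ ⟨g, rfl, hg⟩
          rw [hno g (hφ (hmem hg))]
          exact Subgroup.mem_zpowers t
        have h := Nat.le_of_dvd Nat.card_pos (Subgroup.card_dvd_of_le hle)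
        rw [Nat.card_zpowers, ht, Nat.card_congr e.toEquiv, Nat.card_eq_fintype_card,
          J1Order.card_mdl] at h
        omega
      central := ⟨P, hP⟩ }
  exact main hrec S

end CfsgLib.J1Closure
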